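import Cfsg.Agent.Lib.FixedSpace.Basic

/-!
# Extension of scalars to an algebraic closure
-/

set_option autoImplicit false
set_option linter.all false

namespace CfsgLib.FixedSpace

open Module TensorProduct
open CfsgLib.Perm.AltSection (eig mem_eig)

variable {K V : Type*} [Field K] [AddCommGroup V] [Module K V] [FiniteDimensional K V]

theorem finrank_ker_baseChange (L : Type*) [Field L] [Algebra K L] (f : End K V) :
    finrank L ↥(LinearMap.ker (f.baseChange L)) = finrank K ↥(LinearMap.ker f) := by
  have h1 := LinearMap.finrank_range_add_finrank_ker f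
  have h2 := LinearMap.finrank_range_add_finrank_ker (f.baseChange L)
  rw [Module.finrank_baseChange] at h2
  obtain ⟨W, hW⟩ : ∃ W, W = LinearMap.range f := ⟨_, rfl⟩
  have hcomp : f.baseChange L = (W.subtype.baseChange L).comp
      ((f.codRestrict W fun v => hW ▸ LinearMap.mem_range_self f v).baseChange L) := by
    rw [← LinearMap.baseChange_comp, LinearMap.subtype_comp_codRestrict]
  have hs : LinearMap.range ((f.codRestrict W fun v => hW ▸ LinearMap.mem_range_self f v).baseChange L) = ⊤ := by
    refine LinearMap.range_eq_top.2 ?_
    have h : Function.Surjective (f.codRestrict W fun v => hW ▸ LinearMap.mem_range_self f v) := by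
      rintro ⟨w, hw⟩
      rw [hW] at hw
      obtain ⟨v, rfl⟩ := hw
      exact ⟨v, rfl⟩
    exact LinearMap.lTensor_surjective L h
  have hi : Function.Injective (W.subtype.baseChange L) :=
    Module.Flat.lTensor_preserves_injective_linearMap (M := L) W.subtype W.subtype_injective
  have hr : finrank L ↥(LinearMap.range (f.baseChange L)) = finrank K ↥(LinearMap.range f) := by
    rw [hcomp, LinearMap.range_comp, hs, Submodule.map_top, LinearMap.finrank_range_of_inj hi,
      Module.finrank_baseChange, hW]
  omega

/-- The representation over a larger field. -/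
noncomputable def extRep (L : Type*) [Field L] [Algebra K L] {G : Type*} [Group G] (ρ : Representation K G V) :
    Representation L G (L ⊗[K] V) :=
  (Module.End.baseChangeHom K L V).toMonoidHom.comp ρ

theorem extRep_apply (L : Type*) [Field L] [Algebra K L] {G : Type*} [Group G] (ρ : Representation K G V) (g : G) :
    extRep L ρ g = (ρ g).baseChange L := rfl

theorem good_of_extRep (L : Type*) [Field L] [Algebra K L] {G : Type*} [Group G] {ρ : Representation K G V}
    (h : Good (extRep L ρ)) : Good ρ := by
  obtain ⟨g, hg, hd⟩ := h
  refine ⟨g, hg, ?_⟩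
  have e : (1 : End L (L ⊗[K] V)) = (1 : End K V).baseChange L := (map_one (Module.End.baseChangeHom K L V)).symm
  rw [Module.finrank_baseChange, eig_one_eq, extRep_apply, e, ← LinearMap.baseChange_sub,
    finrank_ker_baseChange, ← eig_one_eq] at hd
  exact hd

end CfsgLib.FixedSpace
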