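import Cfsg.Agent.Lib.Perm.AltSection.Lin
import Cfsg.Agent.Lib.Perm.UniqueDegreeP.Weight

/-!
# A non-identity element with a large fixed space: eigenspace tools and the easy configurations

`Good ρ` says that some non-identity element fixes at least a sixth of the space.  An element of small
order in that characteristic, a non-cyclic elementary group of order `r ^ 2` with `r ≤ 5`, and an element of
order three moving a commuting pair each give `Good`.
-/

set_option autoImplicit false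
set_option linter.all false

namespace CfsgLib.FixedSpace

open Module
open CfsgLib.Perm.AltSection (eig mem_eig proj apply_proj sum_proj pow_eig)
open CfsgLib.Perm.UniqueDegreeP.Weight (finrank_map_add)

variable {K V : Type*} [Field K] [AddCommGroup V] [Module K V]

/-- Some non-identity element fixes at least a sixth of the space. -/
def Good {G : Type*} [Group G] (ρ : Representation K G V) : Prop :=
  ∃ g : G, g ≠ 1 ∧ finrank K V ≤ 6 * finrank K ↥(eig (ρ g) 1)

theorem Good.of_hom {G G' : Type*} [Group G] [Group G'] {ρ : Representation K G V} {f : G' →* G}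
    (hf : Function.Injective f) (h : Good (ρ.comp f : Representation K G' V)) : Good ρ := by
  obtain ⟨g, hg, hd⟩ := h
  exact ⟨f g, fun e => hg (hf (e.trans (map_one f).symm)), hd⟩

theorem finrank_split [FiniteDimensional K V] {W : Type*} [AddCommGroup W] [Module K W] (f : V →ₗ[K] W)
    (A : Submodule K V) :
    finrank K ↥A = finrank K ↥(A ⊓ LinearMap.ker f) + finrank K ↥(A.map f) := by
  rw [← finrank_map_add f A, inf_comm, add_comm]

theorem finrank_finsetSup_le [FiniteDimensional K V] {ι : Type*} (s : Finset ι) (S : ι → Submodule K V) :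
    finrank K ↥(s.sup S) ≤ ∑ i ∈ s, finrank K ↥(S i) := by
  classical
  induction s using Finset.induction_on with
  | empty => simp
  | @insert a s ha ih =>
    rw [Finset.sup_insert, Finset.sum_insert ha]
    exact (Submodule.finrank_add_le_finrank_add_finrank _ _).trans (Nat.add_le_add_left ih _)

theorem map_finsetSup_eig_le (T : End K V) (s : Finset K) {v : V} (hv : v ∈ s.sup (eig T)) :
    T v ∈ s.sup (eig T) := by
  classical
  induction s using Finset.induction_on generalizing v with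
  | empty => simp_all
  | @insert a s ha ih =>
    rw [Finset.sup_insert] at hv ⊢
    obtain ⟨x, hx, y, hy, rfl⟩ := Submodule.mem_sup.1 hv
    rw [map_add, mem_eig.1 hx]
    exact Submodule.add_mem_sup (Submodule.smul_mem _ _ hx) (ih hy)

theorem disjoint_eig_sup (T : End K V) (s : Finset K) :
    ∀ {a : K}, a ∉ s → eig T a ⊓ s.sup (eig T) = ⊥ := by
  classical
  induction s using Finset.induction_on with
  | empty => simp
  | @insert b s hb ih =>
    intro a ha
    rw [Finset.mem_insert, not_or] at ha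
    refine (Submodule.eq_bot_iff _).2 fun v hv => ?_
    obtain ⟨hva, hvs⟩ := Submodule.mem_inf.1 hv
    rw [Finset.sup_insert] at hvs
    obtain ⟨x, hx, y, hy, hxy⟩ := Submodule.mem_sup.1 hvs
    have h1 : (a - b) • v = T y - b • y := by
      rw [sub_smul, ← mem_eig.1 hva, ← hxy, map_add, mem_eig.1 hx, smul_add]
      abel
    have h2 : (a - b) • v ∈ eig T a ⊓ s.sup (eig T) :=
      ⟨Submodule.smul_mem _ _ hva, h1 ▸ Submodule.sub_mem _ (map_finsetSup_eig_le T s hy)
        (Submodule.smul_mem _ _ hy)⟩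
    rw [ih ha.2, Submodule.mem_bot] at h2
    exact (smul_eq_zero.1 h2).resolve_left (sub_ne_zero.2 ha.1)

/-- The parts of a subspace in distinct eigenspaces. -/
theorem sum_inf_eig_le [FiniteDimensional K V] (T : End K V) (A : Submodule K V) {ι : Type*} (s : Finset ι)
    (c : ι → K) (hc : Set.InjOn c s) :
    ∑ i ∈ s, finrank K ↥(A ⊓ eig T (c i)) ≤ finrank K ↥A := by
  classical
  have key : ∀ u : Finset K, ∑ a ∈ u, finrank K ↥(A ⊓ eig T a) ≤ finrank K ↥(A ⊓ u.sup (eig T)) := by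
    intro u
    induction u using Finset.induction_on with
    | empty => simp
    | @insert a u ha ih =>
      rw [Finset.sum_insert ha, Finset.sup_insert]
      have h := Submodule.finrank_sup_add_finrank_inf_eq (A ⊓ eig T a) (A ⊓ u.sup (eig T))
      have hd : (A ⊓ eig T a) ⊓ (A ⊓ u.sup (eig T)) = ⊥ :=
        le_bot_iff.1 (disjoint_eig_sup T u ha ▸ inf_le_inf inf_le_right inf_le_right)
      rw [hd, finrank_bot, add_zero] at h
      have hle : finrank K ↥((A ⊓ eig T a) ⊔ (A ⊓ u.sup (eig T))) ≤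
          finrank K ↥(A ⊓ (eig T a ⊔ u.sup (eig T))) :=
        Submodule.finrank_mono (le_inf (sup_le inf_le_left inf_le_left)
          (sup_le_sup inf_le_right inf_le_right))
      omega
  rw [← Finset.sum_image (f := fun a => finrank K ↥(A ⊓ eig T a)) hc]
  exact (key _).trans (Submodule.finrank_mono inf_le_left)

theorem top_le_sup_eig {T : End K V} {n : ℕ} {ζ : K} (hζ : IsPrimitiveRoot ζ n) (hn : (n : K) ≠ 0)
    (hT : T ^ n = 1) : (⊤ : Submodule K V) ≤ (Finset.range n).sup fun i => eig T (ζ ^ i) := by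
  intro v _
  rw [← sum_proj (t := T) hζ hn v]
  refine Submodule.sum_mem _ fun i hi => ?_
  have h0 : ζ ≠ 0 := hζ.ne_zero fun e => hn (by rw [e, Nat.cast_zero])
  exact Finset.le_sup (f := fun i => eig T (ζ ^ i)) hi (mem_eig.2 (apply_proj hT (pow_ne_zero _ h0)
    (by rw [← pow_mul, mul_comm, pow_mul, hζ.pow_eq_one, one_pow]) v))

theorem injOn_pow {n : ℕ} {ζ : K} (hζ : IsPrimitiveRoot ζ n) :
    Set.InjOn (fun i : ℕ => ζ ^ i) (Finset.range n : Finset ℕ) := fun i hi j hj h =>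
  hζ.pow_inj (by simpa using hi) (by simpa using hj) h

/-- An operator of finite order prime to the characteristic splits the space into its eigenspaces. -/
theorem finrank_eq_sum_eig [FiniteDimensional K V] {T : End K V} {n : ℕ} {ζ : K} (hζ : IsPrimitiveRoot ζ n)
    (hn : (n : K) ≠ 0) (hT : T ^ n = 1) :
    finrank K V = ∑ i ∈ Finset.range n, finrank K ↥(eig T (ζ ^ i)) := by
  refine le_antisymm ?_ ?_
  · rw [← finrank_top K V]
    exact (Submodule.finrank_mono (top_le_sup_eig hζ hn hT)).trans (finrank_finsetSup_le _ _)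
  · have h := sum_inf_eig_le T ⊤ (Finset.range n) (fun i => ζ ^ i) (injOn_pow hζ)
    rw [finrank_top] at h
    exact le_of_eq_of_le (Finset.sum_congr rfl fun i _ => by rw [top_inf_eq]) h

theorem exists_primitive [IsAlgClosed K] (n : ℕ) (hn : (n : K) ≠ 0) : ∃ ζ : K, IsPrimitiveRoot ζ n := by
  haveI : NeZero (n : K) := ⟨hn⟩
  have hpos : 0 < n := Nat.pos_of_ne_zero fun e => hn (by rw [e, Nat.cast_zero])
  obtain ⟨ζ, hζ⟩ := IsAlgClosed.exists_root (Polynomial.cyclotomic n K) (by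
    rw [Polynomial.degree_cyclotomic]
    exact_mod_cast (Nat.totient_pos.2 hpos).ne')
  exact ⟨ζ, Polynomial.isRoot_cyclotomic_iff.1 hζ⟩

variable {G : Type*} [Group G] (ρ : Representation K G V)

theorem rho_pow {g : G} {n : ℕ} (h : g ^ n = 1) : ρ g ^ n = 1 := by rw [← map_pow, h, map_one]

theorem finrank_ker_pow_le [FiniteDimensional K V] (D : End K V) (k : ℕ) :
    finrank K ↥(LinearMap.ker (D ^ k)) ≤ k * finrank K ↥(LinearMap.ker D) := by
  induction k with
  | zero => simp [Module.End.one_eq_id]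
  | succ k ih =>
    have h := finrank_split D (LinearMap.ker (D ^ (k + 1)))
    have h1 : finrank K ↥(LinearMap.ker (D ^ (k + 1)) ⊓ LinearMap.ker D) ≤ finrank K ↥(LinearMap.ker D) :=
      Submodule.finrank_mono inf_le_right
    have h2 : finrank K ↥((LinearMap.ker (D ^ (k + 1))).map D) ≤ finrank K ↥(LinearMap.ker (D ^ k)) := by
      refine Submodule.finrank_mono ?_
      rintro _ ⟨v, hv, rfl⟩
      rw [SetLike.mem_coe, LinearMap.mem_ker, pow_succ, End.mul_apply] at hv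
      exact LinearMap.mem_ker.2 hv
    rw [add_mul, one_mul]
    omega

theorem eig_one_eq (g : G) : eig (ρ g) 1 = LinearMap.ker (ρ g - 1) := by
  rw [eig, one_smul]

/-- An element of order equal to the characteristic `r ≤ 6`. -/
theorem good_of_char [FiniteDimensional K V] {r : ℕ} [hr : Fact r.Prime] [CharP K r] (hr6 : r ≤ 6) {g : G}
    (hg : g ^ r = 1) (hg1 : g ≠ 1) : Good ρ := by
  refine ⟨g, hg1, ?_⟩
  by_cases hV : Subsingleton V
  · rw [finrank_zero_of_subsingleton]; exact Nat.zero_le _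
  haveI := not_subsingleton_iff_nontrivial.1 hV
  have h0 : (ρ g - 1) ^ r = 0 := by
    haveI : CharP (End K V) r :=
      charP_of_injective_algebraMap (R := K) (FaithfulSMul.algebraMap_injective K (End K V)) r
    rw [sub_pow_char_of_commute r (Commute.one_right _), rho_pow ρ hg, one_pow, sub_self]
  have h := finrank_ker_pow_le (ρ g - 1) r
  rw [h0, LinearMap.ker_zero, finrank_top, ← eig_one_eq] at h
  exact h.trans (Nat.mul_le_mul_right _ hr6)

/-- A non-cyclic group of order `r ^ 2`, where `r ≤ 5`. -/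
theorem good_of_pair [IsAlgClosed K] [FiniteDimensional K V] {r : ℕ} [hr : Fact r.Prime] (hr5 : r ≤ 5) {a b : G}
    (ha : a ^ r = 1) (hb : b ^ r = 1) (hab : Commute a b) (hb1 : b ≠ 1) (hne : ∀ k : ℕ, a ≠ b ^ k) : Good ρ := by
  classical
  have ha1 : a ≠ 1 := fun e => hne 0 (by simpa using e)
  by_cases hrK : (r : K) = 0
  · haveI : CharP K r := (CharP.charP_iff_prime_eq_zero hr.out).2 hrK
    exact good_of_char ρ (hr5.trans (by norm_num)) ha ha1
  obtain ⟨ζ, hζ⟩ := exists_primitive (K := K) r hrK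
  have hab1 : ∀ k : ℕ, a * b ^ k ≠ 1 := by
    intro k e
    refine hne ((r - 1) * k) ?_
    rw [eq_inv_of_mul_eq_one_left e, inv_eq_iff_mul_eq_one, ← pow_add,
      show k + (r - 1) * k = r * k by rw [← one_add_mul, Nat.add_sub_cancel' hr.out.one_le], pow_mul, hb, one_pow]
  obtain ⟨W, hW⟩ : ∃ W : ℕ → Submodule K V, ∀ k, W k = eig (ρ (a * b ^ k)) 1 := ⟨_, fun _ => rfl⟩
  have htop : (⊤ : Submodule K V) ≤ eig (ρ b) 1 ⊔ (Finset.range r).sup W := by
    intro v _
    rw [← sum_proj (t := ρ b) hζ hrK v]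
    refine Submodule.sum_mem _ fun j hj => ?_
    have hjr := Finset.mem_range.1 hj
    have h0 : ζ ≠ 0 := hζ.ne_zero hr.out.ne_zero
    obtain ⟨w, hw⟩ : ∃ w, proj (ρ b) r (ζ ^ j) v = w := ⟨_, rfl⟩
    have hwb : ρ b w = ζ ^ j • w := hw ▸ apply_proj (rho_pow ρ hb) (pow_ne_zero _ h0)
      (by rw [← pow_mul, mul_comm, pow_mul, hζ.pow_eq_one, one_pow]) v
    rw [hw]
    by_cases hj0 : j = 0
    · exact Submodule.mem_sup_left (mem_eig.2 (by rw [hwb, hj0, pow_zero]))
    rw [← sum_proj (t := ρ a) hζ hrK w]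
    refine Submodule.mem_sup_right (Submodule.sum_mem _ fun i hi => ?_)
    have hir := Finset.mem_range.1 hi
    obtain ⟨k, hk, hkd⟩ : ∃ k < r, r ∣ i + j * k := by
      haveI : NeZero r := ⟨hr.out.ne_zero⟩
      have hj' : (j : ZMod r) ≠ 0 := fun e =>
        hj0 (Nat.eq_zero_of_dvd_of_lt ((ZMod.natCast_eq_zero_iff _ _).1 e) hjr)
      refine ⟨(-(i : ZMod r) / (j : ZMod r)).val, ZMod.val_lt _, (ZMod.natCast_eq_zero_iff _ _).1 ?_⟩
      rw [Nat.cast_add, Nat.cast_mul, ZMod.natCast_zmod_val, mul_div_cancel₀ _ hj', add_neg_cancel]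
    have hcomm : Commute (ρ b) (proj (ρ a) r (ζ ^ i)) :=
      CfsgLib.Perm.AltSection.commute_proj (hab.symm.map ρ) r _
    obtain ⟨x, hx⟩ : ∃ x, proj (ρ a) r (ζ ^ i) w = x := ⟨_, rfl⟩
    have hxa : ρ a x = ζ ^ i • x := hx ▸ apply_proj (rho_pow ρ ha) (pow_ne_zero _ h0)
      (by rw [← pow_mul, mul_comm, pow_mul, hζ.pow_eq_one, one_pow]) w
    have hxb : ρ b x = ζ ^ j • x := by
      rw [← hx, ← End.mul_apply, hcomm.eq, End.mul_apply, hwb, map_smul]
    rw [hx]
    refine Finset.le_sup (f := W) (Finset.mem_range.2 hk) ?_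
    rw [hW]
    refine mem_eig.2 ?_
    rw [map_mul, map_pow, End.mul_apply, pow_eig hxb, map_smul, hxa, smul_smul, ← pow_mul, ← pow_add,
      (hζ.pow_eq_one_iff_dvd _).2 (by rwa [add_comm])]
  have h1 : finrank K V ≤ finrank K ↥(eig (ρ b) 1) + ∑ k ∈ Finset.range r, finrank K ↥(W k) := by
    rw [← finrank_top K V]
    exact ((Submodule.finrank_mono htop).trans (Submodule.finrank_add_le_finrank_add_finrank _ _)).trans
      (Nat.add_le_add_left (finrank_finsetSup_le _ _) _)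
  by_contra hg
  simp only [Good, not_exists, not_and, not_le] at hg
  have h3 := hg b hb1
  have h4 : 6 * ∑ k ∈ Finset.range r, finrank K ↥(W k) ≤ r * finrank K V := by
    rw [Finset.mul_sum]
    calc ∑ k ∈ Finset.range r, 6 * finrank K ↥(W k) ≤ ∑ _k ∈ Finset.range r, finrank K V :=
          Finset.sum_le_sum fun k _ => (hW k ▸ (hg _ (hab1 k)).le)
      _ = r * finrank K V := by simp
  have h5 : r * finrank K V ≤ 5 * finrank K V := Nat.mul_le_mul_right _ hr5
  omega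

/-- The count behind `good_of_three_moves`. -/
theorem three_moves_count [FiniteDimensional K V] {X P Q : End K V} {ω : K} (hω : IsPrimitiveRoot ω 3)
    (h3 : (3 : K) ≠ 0) (hX : X ^ 3 = 1) (hP : ∀ v, X (P v) = ω • P (X v)) (hQ : ∀ v, X (Q v) = ω ^ 2 • Q (X v))
    (hPQ : Commute P Q) :
    finrank K V ≤ 4 * finrank K ↥(eig X 1) + 2 * finrank K ↥(LinearMap.ker P ⊓ LinearMap.ker Q) := by
  obtain ⟨C, hC⟩ : ∃ C, C = LinearMap.ker P ⊓ LinearMap.ker Q := ⟨_, rfl⟩
  obtain ⟨V0, hV0⟩ : ∃ V0, V0 = eig X 1 := ⟨_, rfl⟩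
  obtain ⟨V1, hV1⟩ : ∃ V1, V1 = eig X ω := ⟨_, rfl⟩
  obtain ⟨V2, hV2⟩ : ∃ V2, V2 = eig X (ω ^ 2) := ⟨_, rfl⟩
  have hω3 : ω ^ 3 = 1 := hω.pow_eq_one
  have shP : ∀ {c c' : K} {v : V}, v ∈ eig X c → ω * c = c' → P v ∈ eig X c' := by
    intro c c' v hv e
    rw [mem_eig, hP, mem_eig.1 hv, map_smul, smul_smul, e]
  have shQ : ∀ {c c' : K} {v : V}, v ∈ eig X c → ω ^ 2 * c = c' → Q v ∈ eig X c' := by
    intro c c' v hv e
    rw [mem_eig, hQ, mem_eig.1 hv, map_smul, smul_smul, e]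
  have hcomm : ∀ v, P (Q v) = Q (P v) := fun v => by rw [← End.mul_apply, hPQ.eq, End.mul_apply]
  have hQP : ∀ v, Q v = 0 → Q (P v) = 0 := fun v h => by rw [← hcomm, h, map_zero]
  have hPQ' : ∀ v, P v = 0 → P (Q v) = 0 := fun v h => by rw [hcomm, h, map_zero]
  have hsum : finrank K V = finrank K ↥V0 + finrank K ↥V1 + finrank K ↥V2 := by
    rw [finrank_eq_sum_eig hω (by exact_mod_cast h3) hX, Finset.sum_range_succ, Finset.sum_range_succ,
      Finset.sum_range_one, pow_zero, pow_one, hV0, hV1, hV2]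
  have hCsum : finrank K ↥(C ⊓ V0) + finrank K ↥(C ⊓ V1) + finrank K ↥(C ⊓ V2) ≤ finrank K ↥C := by
    have h := sum_inf_eig_le X C (Finset.range 3) (fun i => ω ^ i) (injOn_pow hω)
    rwa [Finset.sum_range_succ, Finset.sum_range_succ, Finset.sum_range_one, pow_zero, pow_one, ← hV0, ← hV1,
      ← hV2] at h
  obtain ⟨W1, hW1⟩ : ∃ W1, W1 = V1 ⊓ LinearMap.ker Q := ⟨_, rfl⟩
  obtain ⟨W2, hW2⟩ : ∃ W2, W2 = V2 ⊓ LinearMap.ker P := ⟨_, rfl⟩
  obtain ⟨U1, hU1⟩ : ∃ U1, U1 = W1 ⊓ LinearMap.ker (P * P) := ⟨_, rfl⟩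
  obtain ⟨U2, hU2⟩ : ∃ U2, U2 = W2 ⊓ LinearMap.ker (Q * Q) := ⟨_, rfl⟩
  have e1 := finrank_split Q V1
  have e2 := finrank_split P V2
  have b1 : finrank K ↥(V1.map Q) ≤ finrank K ↥V0 := Submodule.finrank_mono (by
    rintro _ ⟨v, hv, rfl⟩; rw [hV1] at hv; rw [hV0]; exact shQ hv (by rw [← pow_succ, hω3]))
  have b2 : finrank K ↥(V2.map P) ≤ finrank K ↥V0 := Submodule.finrank_mono (by
    rintro _ ⟨v, hv, rfl⟩; rw [hV2] at hv; rw [hV0]; exact shP hv (by rw [← pow_succ', hω3]))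
  rw [← hW1] at e1
  rw [← hW2] at e2
  have e3 := finrank_split (P * P) W1
  have e4 := finrank_split (Q * Q) W2
  rw [← hU1] at e3
  rw [← hU2] at e4
  have b3 : finrank K ↥(W1.map (P * P)) ≤ finrank K ↥(V0 ⊓ LinearMap.ker Q) := Submodule.finrank_mono (by
    rintro _ ⟨v, hv, rfl⟩
    rw [hW1, hV1] at hv
    obtain ⟨hv1, hv2⟩ := Submodule.mem_inf.1 hv
    rw [End.mul_apply, hV0]
    exact Submodule.mem_inf.2 ⟨shP (shP hv1 rfl) (by rw [← pow_two, ← pow_succ', hω3]),
      hQP _ (hQP _ (LinearMap.mem_ker.1 hv2))⟩)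
  have b4 : finrank K ↥(W2.map (Q * Q)) ≤ finrank K ↥(V0 ⊓ LinearMap.ker P) := Submodule.finrank_mono (by
    rintro _ ⟨v, hv, rfl⟩
    rw [hW2, hV2] at hv
    obtain ⟨hv1, hv2⟩ := Submodule.mem_inf.1 hv
    rw [End.mul_apply, hV0]
    exact Submodule.mem_inf.2 ⟨shQ (shQ hv1 rfl) (by
      rw [← mul_assoc, ← pow_add, ← pow_add, show 2 + 2 + 2 = 3 * 2 by norm_num, pow_mul, hω3, one_pow]),
      hPQ' _ (hPQ' _ (LinearMap.mem_ker.1 hv2))⟩)
  have e5 := finrank_split P U1
  have e6 := finrank_split Q U2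
  have b5 : finrank K ↥(U1 ⊓ LinearMap.ker P) ≤ finrank K ↥(C ⊓ V1) := Submodule.finrank_mono (by
    rintro v ⟨hv, hvP⟩
    rw [hU1, hW1] at hv
    exact ⟨hC ▸ ⟨hvP, hv.1.2⟩, hv.1.1⟩)
  have b6 : finrank K ↥(U2 ⊓ LinearMap.ker Q) ≤ finrank K ↥(C ⊓ V2) := Submodule.finrank_mono (by
    rintro v ⟨hv, hvQ⟩
    rw [hU2, hW2] at hv
    exact ⟨hC ▸ ⟨hv.1.2, hvQ⟩, hv.1.1⟩)
  have b7 : finrank K ↥(U1.map P) ≤ finrank K ↥(C ⊓ V2) := Submodule.finrank_mono (by
    rintro _ ⟨v, hv, rfl⟩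
    rw [hU1, hW1, hV1] at hv
    refine ⟨hC ▸ ⟨LinearMap.mem_ker.2 ?_, LinearMap.mem_ker.2 (hQP _ (LinearMap.mem_ker.1 hv.1.2))⟩,
      hV2 ▸ shP hv.1.1 (pow_two ω).symm⟩
    exact LinearMap.mem_ker.1 hv.2)
  have b8 : finrank K ↥(U2.map Q) ≤ finrank K ↥(C ⊓ V1) := Submodule.finrank_mono (by
    rintro _ ⟨v, hv, rfl⟩
    rw [hU2, hW2, hV2] at hv
    refine ⟨hC ▸ ⟨LinearMap.mem_ker.2 (hPQ' _ (LinearMap.mem_ker.1 hv.1.2)), LinearMap.mem_ker.2 ?_⟩,
      hV1 ▸ shQ hv.1.1 (by rw [← pow_add, pow_succ, hω3, one_mul])⟩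
    exact LinearMap.mem_ker.1 hv.2)
  have hk := Submodule.finrank_sup_add_finrank_inf_eq (V0 ⊓ LinearMap.ker Q) (V0 ⊓ LinearMap.ker P)
  have b9 : finrank K ↥((V0 ⊓ LinearMap.ker Q) ⊔ (V0 ⊓ LinearMap.ker P) : Submodule K V) ≤ finrank K ↥V0 :=
    Submodule.finrank_mono (sup_le inf_le_left inf_le_left)
  have b10 : finrank K ↥((V0 ⊓ LinearMap.ker Q) ⊓ (V0 ⊓ LinearMap.ker P) : Submodule K V) ≤
      finrank K ↥(C ⊓ V0) :=
    Submodule.finrank_mono (fun v hv => ⟨hC ▸ ⟨hv.2.2, hv.1.2⟩, hv.1.1⟩)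
  rw [← hV0, ← hC]
  omega

/-- An element of order three moving a commuting pair of conjugates. -/
theorem good_of_three_moves [IsAlgClosed K] [FiniteDimensional K V] (h3 : (3 : K) ≠ 0) {x a : G}
    (hx : x ^ 3 = 1) (hcop : Nat.Coprime (orderOf a) 3) (hc : Commute a (x * a * x⁻¹))
    (hne : x * a * x⁻¹ ≠ a) : Good ρ := by
  have hxx : x * x * x = 1 := by rw [← hx, pow_succ, pow_two]
  obtain ⟨κ, hκ⟩ : ∃ κ : G →* G, ∀ g, κ g = x * g * x⁻¹ := ⟨(MulAut.conj x).toMonoidHom, fun _ => rfl⟩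
  have hx' : ∀ g, x * (x * (x * g * x⁻¹) * x⁻¹) * x⁻¹ = g := fun g => by
    calc x * (x * (x * g * x⁻¹) * x⁻¹) * x⁻¹ = (x * x * x) * g * (x * x * x)⁻¹ := by group
      _ = g := by rw [hxx, one_mul, inv_one, mul_one]
  have hκ3 : ∀ g, κ (κ (κ g)) = g := fun g => by rw [hκ, hκ, hκ]; exact hx' g
  rw [← hκ] at hc hne
  obtain ⟨b, hb⟩ : ∃ b, b = a * (κ a)⁻¹ := ⟨_, rfl⟩
  have hc12 : Commute (κ a) (κ (κ a)) := hc.map κ
  have hc20 : Commute (κ (κ a)) a := by simpa [hκ3] using hc12.map κ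
  have hb1 : b ≠ 1 := fun e => hne (mul_inv_eq_one.1 (hb ▸ e)).symm
  have hprod : b * κ b * κ (κ b) = 1 := by
    rw [hb, map_mul, map_mul, map_inv, map_inv, hκ3]
    group
  have hbc : Commute b (κ b) := by
    rw [hb, map_mul, map_inv]
    exact ((hc.mul_right hc20.symm.inv_right).mul_left
      (((Commute.refl (κ a)).mul_right hc12.inv_right).inv_left))
  have hbc12 : Commute (κ b) (κ (κ b)) := hbc.map κ
  have hbc20 : Commute (κ (κ b)) b := by simpa [hκ3] using hbc12.map κ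
  have hord : b ^ orderOf a = 1 := by
    rw [hb, hc.inv_right.mul_pow, inv_pow, pow_orderOf_eq_one, ← map_pow, pow_orderOf_eq_one, map_one, inv_one,
      mul_one]
  have hcop' : Nat.Coprime (orderOf b) 3 := Nat.Coprime.coprime_dvd_left (orderOf_dvd_of_pow_eq_one hord) hcop
  obtain ⟨k, hk⟩ := exists_pow_eq_self_of_coprime (x := b) hcop'.symm
  obtain ⟨ω, hω⟩ := exists_primitive (K := K) 3 (by exact_mod_cast h3)
  have hω2 : 1 + ω + ω ^ 2 = 0 := by
    have h := hω.geom_sum_eq_zero (by norm_num)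
    simpa [Finset.sum_range_succ] using h
  obtain ⟨B0, hB0⟩ : ∃ B, B = ρ b := ⟨_, rfl⟩
  obtain ⟨B1, hB1⟩ : ∃ B, B = ρ (κ b) := ⟨_, rfl⟩
  obtain ⟨B2, hB2⟩ : ∃ B, B = ρ (κ (κ b)) := ⟨_, rfl⟩
  obtain ⟨P, hP⟩ : ∃ P, P = B0 + ω ^ 2 • B1 + ω • B2 := ⟨_, rfl⟩
  obtain ⟨Q, hQ⟩ : ∃ Q, Q = B0 + ω • B1 + ω ^ 2 • B2 := ⟨_, rfl⟩
  have hsh : ∀ (g : G) (v : V), ρ x (ρ g v) = ρ (κ g) (ρ x v) := fun g v => by
    rw [← End.mul_apply, ← End.mul_apply, ← map_mul, ← map_mul, hκ, inv_mul_cancel_right]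
  have hω3 : ω ^ 3 = 1 := hω.pow_eq_one
  have hω4 : ω ^ 4 = ω := by rw [pow_succ, hω3, one_mul]
  have hPs : ∀ v, ρ x (P v) = ω • P (ρ x v) := fun v => by
    simp only [hP, hB0, hB1, hB2, LinearMap.add_apply, LinearMap.smul_apply, map_add, map_smul, hsh, hκ3,
      smul_add, smul_smul, ← pow_succ', hω3, one_smul, ← pow_two]
    abel
  have hQs : ∀ v, ρ x (Q v) = ω ^ 2 • Q (ρ x v) := fun v => by
    simp only [hQ, hB0, hB1, hB2, LinearMap.add_apply, LinearMap.smul_apply, map_add, map_smul, hsh, hκ3,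
      smul_add, smul_smul, ← pow_succ, ← pow_add, hω3, hω4, one_smul]
    abel
  have hPQ : Commute P Q := by
    have c01 : Commute B0 B1 := hB0 ▸ hB1 ▸ hbc.map ρ
    have c12 : Commute B1 B2 := hB1 ▸ hB2 ▸ hbc12.map ρ
    have c20 : Commute B2 B0 := hB2 ▸ hB0 ▸ hbc20.map ρ
    rw [hP, hQ]
    refine ((Commute.add_left ?_ ?_).add_left ?_) <;> refine ((Commute.add_right ?_ ?_).add_right ?_)
    exacts [Commute.refl _, c01.smul_right _, c20.symm.smul_right _, c01.symm.smul_left _,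
      ((Commute.refl B1).smul_left _).smul_right _, (c12.smul_left _).smul_right _, c20.smul_left _,
      (c12.symm.smul_left _).smul_right _, ((Commute.refl B2).smul_left _).smul_right _]
  have hker : LinearMap.ker P ⊓ LinearMap.ker Q ≤ eig (ρ b) 1 := by
    intro v hv
    have hP0 : B0 v + ω ^ 2 • B1 v + ω • B2 v = 0 := by simpa [hP] using hv.1
    have hQ0 : B0 v + ω • B1 v + ω ^ 2 • B2 v = 0 := by simpa [hQ] using hv.2
    have hne' : ω ^ 2 - ω ≠ 0 := sub_ne_zero.2 fun e => by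
      have := hω.pow_inj (i := 2) (j := 1) (by norm_num) (by norm_num) (by rw [e, pow_one])
      omega
    have h12 : B1 v = B2 v := by
      have h : (ω ^ 2 - ω) • (B1 v - B2 v) = 0 := by
        linear_combination (norm := module) hP0 - hQ0
      exact sub_eq_zero.1 ((smul_eq_zero.1 h).resolve_left hne')
    have h01 : B0 v = B1 v := by
      rw [← h12, add_assoc, ← add_smul, show ω ^ 2 + ω = -1 by linear_combination hω2, neg_smul, one_smul,
        ← sub_eq_add_neg, sub_eq_zero] at hP0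
      exact hP0
    have hc01 : ∀ w, B0 (B1 w) = B1 (B0 w) := fun w => by
      rw [hB0, hB1, ← End.mul_apply, ← map_mul, hbc.eq, map_mul, End.mul_apply]
    have hall : ρ (b * κ b * κ (κ b)) v = v := by rw [hprod, map_one]; rfl
    rw [map_mul, map_mul, End.mul_apply, End.mul_apply, ← hB0, ← hB1, ← hB2, ← h12, ← h01, ← hc01, ← h01] at hall
    have h3' : (B0 ^ 3) v = v := by
      rw [pow_succ, pow_two, End.mul_apply, End.mul_apply]; exact hall
    have hpow : ((B0 ^ 3) ^ k) v = v := by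
      have := pow_eig (c := (1 : K)) (t := B0 ^ 3) (v := v) (by rw [one_smul]; exact h3') k
      simpa using this
    refine mem_eig.2 ?_
    rw [one_smul, ← hk, map_pow, map_pow, ← hB0]
    exact hpow
  have hmain := three_moves_count (X := ρ x) hω h3 (rho_pow ρ hx) hPs hQs hPQ
  by_contra hg
  simp only [Good, not_exists, not_and, not_le] at hg
  have hx1 : x ≠ 1 := fun e => hne (by rw [hκ, e]; group)
  have h4 := hg x hx1
  have h5 := hg b hb1
  have h6 := Submodule.finrank_mono (R := K) hker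
  omega

end CfsgLib.FixedSpace
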