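import Cfsg.Agent.Lib.FixedSpace.Relation

/-!
# `SL(2,p)`, `p ≥ 11`, in characteristic different from `p`
-/

set_option autoImplicit false
set_option linter.all false

namespace CfsgLib.FixedSpace

open Module Matrix
open CfsgLib.Perm.AltSection (eig mem_eig pow_eig)
open CfsgLib.Known.E8SL2 (uu ww tt negOne uu_add uu_zero tt_mul tt_one tt_uu)

variable {p : ℕ} [Fact p.Prime] {K V : Type*} [Field K] [AddCommGroup V] [Module K V]
  (σ : Representation K (CfsgLib.Known.E8SL2.SL (ZMod p)) V)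

/-- The projection on an eigenspace of the unipotent group. -/
noncomputable def uproj (ψ : AddChar (ZMod p) K) (k : ZMod p) : End K V :=
  (p : K)⁻¹ • ∑ t : ZMod p, ψ (-(t * k)) • σ (uu t)

theorem uu_uproj (ψ : AddChar (ZMod p) K) (s k : ZMod p) (v : V) :
    σ (uu s) (uproj σ ψ k v) = ψ (s * k) • uproj σ ψ k v := by
  simp only [uproj, LinearMap.smul_apply, LinearMap.sum_apply, map_smul, map_sum]
  rw [smul_comm (ψ (s * k))]
  congr 1
  rw [Finset.smul_sum]
  refine Fintype.sum_equiv (Equiv.addLeft s) _ _ fun t => ?_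
  rw [smul_smul, Equiv.coe_addLeft, ← End.mul_apply, ← map_mul, ← uu_add, ← AddChar.map_add_eq_mul]
  congr 2
  ring

theorem sum_uproj {ψ : AddChar (ZMod p) K} (hψ : ψ.IsPrimitive) (hpK : (p : K) ≠ 0) (v : V) :
    ∑ k : ZMod p, uproj σ ψ k v = v := by
  classical
  simp only [uproj, LinearMap.smul_apply, LinearMap.sum_apply, ← Finset.smul_sum]
  rw [Finset.sum_comm]
  simp only [← Finset.sum_smul]
  have hs : ∀ t : ZMod p, ∑ k : ZMod p, ψ (-(t * k)) = if t = 0 then (p : K) else 0 := by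
    intro t
    have h := AddChar.sum_mulShift (-t) hψ
    simp only [neg_eq_zero, ZMod.card] at h
    refine Eq.trans (Finset.sum_congr rfl fun k _ => ?_) (h.trans (by split <;> simp))
    congr 1
    ring
  simp only [hs, ite_smul, zero_smul, Finset.sum_ite_eq', Finset.mem_univ, if_true, uu_zero, map_one]
  rw [smul_smul, inv_mul_cancel₀ hpK, one_smul]
  rfl

theorem uproj_comm {ψ : AddChar (ZMod p) K} {T : End K V} (h : ∀ t, Commute T (σ (uu t))) (k : ZMod p) (v : V) :
    uproj σ ψ k (T v) = T (uproj σ ψ k v) := by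
  simp only [uproj, LinearMap.smul_apply, LinearMap.sum_apply, map_smul, map_sum]
  exact congrArg _ (Finset.sum_congr rfl fun t _ => by rw [← End.mul_apply, ← (h t).eq, End.mul_apply])

theorem uproj_tt (ψ : AddChar (ZMod p) K) (a : (ZMod p)ˣ) (k : ZMod p) (v : V) :
    uproj σ ψ k (σ (tt a) v) = σ (tt a) (uproj σ ψ ((a : ZMod p) * a * k) v) := by
  simp only [uproj, LinearMap.smul_apply, LinearMap.sum_apply, map_smul, map_sum]
  congr 1
  symm
  refine Fintype.sum_equiv (Equiv.mulLeft₀ ((a : ZMod p) * a) (mul_ne_zero a.ne_zero a.ne_zero)) _ _ fun t => ?_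
  rw [Equiv.mulLeft₀_apply, ← End.mul_apply, ← End.mul_apply, ← map_mul, ← map_mul, tt_uu]
  congr 2
  ring

theorem eig_eq_range_uproj {ψ : AddChar (ZMod p) K} (hψ : ψ.IsPrimitive) (hpK : (p : K) ≠ 0) (k : ZMod p) :
    eig (σ (uu 1)) (ψ k) = LinearMap.range (uproj σ ψ k) := by
  refine le_antisymm (fun v hv => ?_) ?_
  · refine ⟨v, ?_⟩
    have hv' : ∀ t : ZMod p, σ (uu t) v = ψ (t * k) • v := by
      intro t
      obtain ⟨n, rfl⟩ := ZMod.natCast_zmod_surjective t
      induction n with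
      | zero => simp [uu_zero]
      | succ n ih =>
        rw [Nat.cast_succ, uu_add, map_mul, End.mul_apply, mem_eig.1 hv, map_smul, ih, smul_smul, add_mul, one_mul,
          AddChar.map_add_eq_mul, mul_comm]
    simp only [uproj, LinearMap.smul_apply, LinearMap.sum_apply, hv', smul_smul, ← AddChar.map_add_eq_mul,
      neg_add_cancel, AddChar.map_zero_eq_one, one_smul, Finset.sum_const, Finset.card_univ, ZMod.card,
      ← Nat.cast_smul_eq_nsmul K, inv_mul_cancel₀ hpK]
  · rintro _ ⟨v, rfl⟩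
    exact mem_eig.2 (by rw [uu_uproj, one_mul])

/-- `SL(2,p)`, `p ≥ 11`, away from the characteristic. -/
theorem good_coprime [IsAlgClosed K] [FiniteDimensional K V] (hp : 11 ≤ p) (hpK : (p : K) ≠ 0) (h2 : (2 : K) ≠ 0) :
    Good σ := by
  classical
  have hp' : p.Prime := Fact.out
  obtain ⟨ζ, hζ⟩ := exists_primitive (K := K) p hpK
  obtain ⟨ψ, hψ⟩ : ∃ ψ, ψ = AddChar.zmodChar p hζ.pow_eq_one := ⟨_, rfl⟩
  have hψp : ψ.IsPrimitive := hψ ▸ AddChar.zmodChar_primitive_of_primitive_root p hζ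
  have hψv : ∀ k : ZMod p, ψ k = ζ ^ k.val := fun k => hψ ▸ AddChar.zmodChar_apply _ _
  have hψ1 : ∀ x : ZMod p, ψ x = 1 → x = 0 := fun x hx => by
    rw [hψv, hζ.pow_eq_one_iff_dvd] at hx
    rw [← ZMod.natCast_zmod_val x, ZMod.natCast_eq_zero_iff]
    exact hx
  obtain ⟨r, hr⟩ := IsCyclic.exists_generator (α := (ZMod p)ˣ)
  obtain ⟨m, hm⟩ := hp'.odd_of_ne_two (by omega)
  have hord : orderOf r = 2 * m := by
    rw [orderOf_eq_card_of_forall_mem_zpowers hr, Nat.card_eq_fintype_card, ZMod.card_units]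
    omega
  have h2p : (2 : ZMod p) ≠ 0 := fun e => by
    have h := (ZMod.natCast_eq_zero_iff 2 p).1 (by exact_mod_cast e)
    have := Nat.le_of_dvd (by norm_num) h
    omega
  have hr2 : (r : ZMod p) * r + 1 ≠ 0 := fun e => by
    have h4 : r ^ 4 = 1 := Units.ext (by push_cast; linear_combination ((r : ZMod p) * r - 1) * e)
    have := Nat.le_of_dvd (by norm_num) (orderOf_dvd_of_pow_eq_one h4)
    omega
  obtain ⟨P, hP⟩ : ∃ P : ZMod p → End K V, ∀ k, P k = uproj σ ψ k := ⟨_, fun _ => rfl⟩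
  obtain ⟨Z, hZ⟩ : ∃ Z, Z = σ (negOne (ZMod p)) := ⟨_, rfl⟩
  have hZ2 : ∀ v, Z (Z v) = v := fun v => by rw [hZ, ← End.mul_apply, ← map_mul, negOne_sq, map_one]; rfl
  -- the equation on one eigencomponent
  have hker : ∀ v, borel σ r v = 0 → ∀ j : ZMod p, P j v = 0 →
      (r : ZMod p) * r * j ≠ 0 → P ((r : ZMod p) * r * j) v = 0 := by
    intro v hv j hj hj0
    obtain ⟨k, hk⟩ : ∃ k, k = (r : ZMod p) * r * j := ⟨_, rfl⟩
    rw [← hk] at hj0 ⊢
    obtain ⟨i, hi⟩ : ∃ i, i = 1 + ((r⁻¹ : (ZMod p)ˣ) : ZMod p) := ⟨_, rfl⟩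
    have hu : ∀ s w, P k (σ (uu s) w) = ψ (s * k) • P k w := fun s w => by
      rw [hP, uproj_comm σ (fun t => by
        show σ (uu s) * σ (uu t) = σ (uu t) * σ (uu s)
        rw [← map_mul, ← map_mul, ← uu_add, ← uu_add, add_comm]) k w]
      exact uu_uproj σ ψ s k w
    have hu' : ∀ s w, P j (σ (uu s) w) = ψ (s * j) • P j w := fun s w => by
      rw [hP, uproj_comm σ (fun t => by
        show σ (uu s) * σ (uu t) = σ (uu t) * σ (uu s)
        rw [← map_mul, ← map_mul, ← uu_add, ← uu_add, add_comm]) j w]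
      exact uu_uproj σ ψ s j w
    have hz : ∀ l w, P l (Z w) = Z (P l w) := fun l w => by
      rw [hP, hZ]; exact uproj_comm σ (fun t => (negOne_comm (uu t)).map σ) l w
    have ht : ∀ w, P k (σ (tt r⁻¹) w) = σ (tt r⁻¹) (P j w) := fun w => by
      rw [hP, uproj_tt, hP, hk]
      congr 3
      have e : ((r⁻¹ : (ZMod p)ˣ) : ZMod p) * (r : ZMod p) = 1 := Units.inv_mul r
      linear_combination j * (((r⁻¹ : (ZMod p)ˣ) : ZMod p) * (r : ZMod p) + 1) * e
    have h := congrArg (P k) hv
    simp only [borel, ← hi, ← hZ, inv_one, tt_one, mul_one, uu_zero, LinearMap.add_apply, LinearMap.sub_apply,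
      End.mul_apply, map_mul, map_add, map_sub, map_zero, map_one, hu, hu', hz, ht, hj, map_smul, smul_zero,
      smul_smul, zero_sub, add_zero, End.one_apply] at h
    obtain ⟨w, hw⟩ : ∃ w, w = P k v := ⟨_, rfl⟩
    rw [← hw, ← neg_add', neg_eq_zero] at h
    obtain ⟨x, hx⟩ : ∃ x, x = i * k + (r : ZMod p) * k := ⟨_, rfl⟩
    rw [← AddChar.map_add_eq_mul, ← hx, one_mul] at h
    have hZw : Z w = -(ψ (x - k)) • w := by
      rw [show x = (x - k) + k by ring, AddChar.map_add_eq_mul, mul_comm, ← smul_smul, ← smul_add,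
        smul_eq_zero] at h
      rcases h with h | h
      · exact absurd h (by rw [hψv]; exact pow_ne_zero _ (hζ.ne_zero hp'.ne_zero))
      · rw [eq_neg_of_add_eq_zero_right h, neg_smul]
    have h22 : w = ψ (2 * (x - k)) • w := by
      conv_lhs => rw [← hZ2 w, hZw, map_smul, hZw, smul_smul, neg_mul_neg, ← AddChar.map_add_eq_mul, ← two_mul]
    by_contra hw0
    have hone : ψ (2 * (x - k)) = 1 := by
      have h0 : (ψ (2 * (x - k)) - 1) • w = 0 := by rw [sub_smul, one_smul, ← h22, sub_self]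
      exact sub_eq_zero.1 ((smul_eq_zero.1 h0).resolve_right (hw.symm ▸ hw0))
    have hxk := (mul_eq_zero.1 (hψ1 _ hone)).resolve_left h2p
    have e : x - k = ((r⁻¹ : (ZMod p)ˣ) : ZMod p) * ((r : ZMod p) * r + 1) * k := by
      rw [hx, hi]
      linear_combination (-(r : ZMod p) * k) * Units.inv_mul r
    rw [e] at hxk
    exact mul_ne_zero (mul_ne_zero (Units.ne_zero _) hr2) hj0 hxk
  -- all components follow from three of them
  have hpow : ∀ x : ZMod p, x ≠ 0 → ∃ n : ℕ, x = (r : ZMod p) ^ n := by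
    intro x hx
    obtain ⟨n, hn⟩ := mem_powers_iff_mem_zpowers.2 (hr (Units.mk0 x hx))
    exact ⟨n, by simpa using congrArg Units.val hn.symm⟩
  have hall : ∀ v, borel σ r v = 0 → P 0 v = 0 → P 1 v = 0 → P (r : ZMod p) v = 0 → v = 0 := by
    intro v hv h0 h1 hr'
    rw [← sum_uproj σ hψp hpK v]
    refine Finset.sum_eq_zero fun k hku => ?_
    clear hku
    by_cases hk : k = 0
    · rw [hk, ← hP]; exact h0
    obtain ⟨n, rfl⟩ := hpow k hk
    rw [← hP]
    clear hk
    induction n using Nat.twoStepInduction with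
    | zero => simpa using h1
    | one => simpa using hr'
    | more n ih _ =>
      rw [show (r : ZMod p) ^ (n + 2) = (r : ZMod p) * r * (r : ZMod p) ^ n by ring]
      exact hker v hv _ ih (mul_ne_zero (mul_ne_zero r.ne_zero r.ne_zero) (pow_ne_zero _ r.ne_zero))
  obtain ⟨e, he⟩ : ∃ e : ZMod p → ℕ, ∀ k, e k = finrank K ↥(LinearMap.range (P k)) := ⟨_, fun _ => rfl⟩
  have hkerle : finrank K ↥(LinearMap.ker (borel σ r)) ≤ e 0 + e 1 + e (r : ZMod p) := by
    have s1 := finrank_split (P 0) (LinearMap.ker (borel σ r))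
    have s2 := finrank_split (P 1) (LinearMap.ker (borel σ r) ⊓ LinearMap.ker (P 0))
    have s3 := finrank_split (P (r : ZMod p)) (LinearMap.ker (borel σ r) ⊓ LinearMap.ker (P 0) ⊓ LinearMap.ker (P 1))
    have hb : LinearMap.ker (borel σ r) ⊓ LinearMap.ker (P 0) ⊓ LinearMap.ker (P 1) ⊓
        LinearMap.ker (P (r : ZMod p)) = ⊥ :=
      (Submodule.eq_bot_iff _).2 fun v hv => hall v hv.1.1.1 hv.1.1.2 hv.1.2 hv.2
    rw [hb, finrank_bot, zero_add] at s3
    have m1 := Submodule.finrank_mono (R := K) (LinearMap.map_le_range (f := P 0) (p := LinearMap.ker (borel σ r)))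
    have m2 := Submodule.finrank_mono (R := K)
      (LinearMap.map_le_range (f := P 1) (p := LinearMap.ker (borel σ r) ⊓ LinearMap.ker (P 0)))
    have m3 := Submodule.finrank_mono (R := K) (LinearMap.map_le_range (f := P (r : ZMod p))
      (p := LinearMap.ker (borel σ r) ⊓ LinearMap.ker (P 0) ⊓ LinearMap.ker (P 1)))
    rw [he, he, he]
    omega
  -- the eigenspaces in an orbit have one dimension
  have hle : ∀ k : ZMod p, e ((r : ZMod p) * r * k) ≤ e k := by
    intro k
    rw [he, he]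
    have h : LinearMap.range (P ((r : ZMod p) * r * k)) ≤ (LinearMap.range (P k)).map (σ (tt r⁻¹)) := by
      rintro _ ⟨v, rfl⟩
      refine ⟨P k (σ (tt r) v), ⟨_, rfl⟩, ?_⟩
      rw [hP, uproj_tt, ← End.mul_apply, ← map_mul, ← tt_mul, inv_mul_cancel, tt_one, map_one, hP]
      rfl
    exact (Submodule.finrank_mono h).trans (Submodule.finrank_map_le _ _)
  have heq : ∀ k : ZMod p, e ((r : ZMod p) * r * k) = e k := by
    intro k
    refine le_antisymm (hle k) ?_
    have hch : ∀ n : ℕ, e (((r : ZMod p) * r) ^ (n + 1) * k) ≤ e ((r : ZMod p) * r * k) := by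
      intro n
      induction n with
      | zero => rw [pow_one]
      | succ n ih => exact le_trans (by rw [pow_succ', mul_assoc]; exact hle _) ih
    have h := hch (m - 1)
    have hper : ((r : ZMod p) * r) ^ m = 1 := by
      rw [← pow_two, ← pow_mul, ← Units.val_pow_eq_pow_val, ← hord, pow_orderOf_eq_one, Units.val_one]
    rwa [Nat.sub_add_cancel (by omega), hper, one_mul] at h
  have hsum : finrank K V = e 0 + m * (e 1 + e (r : ZMod p)) := by
    have hd := finrank_eq_sum_eig (T := σ (uu 1)) hζ hpK (by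
      rw [← map_pow]
      have : ∀ n : ℕ, uu (1 : ZMod p) ^ n = uu (n : ZMod p) := fun n => by
        induction n with
        | zero => simp [uu_zero]
        | succ n ih => rw [pow_succ, ih, Nat.cast_succ, uu_add]
      rw [this, ZMod.natCast_self, uu_zero, map_one])
    have e1 : ∑ i ∈ Finset.range p, finrank K ↥(eig (σ (uu 1)) (ζ ^ i)) = ∑ k : ZMod p, e k := by
      refine Finset.sum_nbij' (fun i => (i : ZMod p)) (fun k => k.val) (fun _ _ => Finset.mem_univ _)
        (fun k _ => Finset.mem_range.2 (ZMod.val_lt k)) (fun i hi => ZMod.val_natCast_of_lt (Finset.mem_range.1 hi))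
        (fun k _ => ZMod.natCast_zmod_val k) fun i hi => ?_
      rw [he, hP, ← eig_eq_range_uproj σ hψp hpK, hψv, ZMod.val_natCast_of_lt (Finset.mem_range.1 hi)]
    rw [hd, e1, ← Finset.add_sum_erase _ _ (Finset.mem_univ (0 : ZMod p))]
    congr 1
    have e2 : ∑ k ∈ Finset.univ.erase (0 : ZMod p), e k = ∑ n ∈ Finset.range (2 * m), e ((r : ZMod p) ^ n) := by
      symm
      refine Finset.sum_bij (fun n _ => (r : ZMod p) ^ n)
        (fun n _ => Finset.mem_erase.2 ⟨pow_ne_zero _ r.ne_zero, Finset.mem_univ _⟩) (fun a ha b hb h => ?_)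
        (fun k hk => ?_) (fun _ _ => rfl)
      · refine pow_injOn_Iio_orderOf (x := r) (by simpa [hord] using ha) (by simpa [hord] using hb) (Units.ext ?_)
        simpa using h
      · obtain ⟨n, hn⟩ := hpow k (Finset.ne_of_mem_erase hk)
        refine ⟨n % (2 * m), Finset.mem_range.2 (Nat.mod_lt _ (by omega)), ?_⟩
        rw [hn, ← Units.val_pow_eq_pow_val, ← hord, pow_mod_orderOf, Units.val_pow_eq_pow_val]
    rw [e2]
    have key : ∀ n, ∑ i ∈ Finset.range (2 * n), e ((r : ZMod p) ^ i) = n * (e 1 + e (r : ZMod p)) := by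
      have hpar : ∀ i : ℕ, e ((r : ZMod p) ^ (2 * i)) = e 1 ∧ e ((r : ZMod p) ^ (2 * i + 1)) = e (r : ZMod p) := by
        intro i
        induction i with
        | zero => simp
        | succ i ih =>
          rw [show (r : ZMod p) ^ (2 * (i + 1)) = (r : ZMod p) * r * (r : ZMod p) ^ (2 * i) by ring,
            show (r : ZMod p) ^ (2 * (i + 1) + 1) = (r : ZMod p) * r * (r : ZMod p) ^ (2 * i + 1) by ring, heq, heq]
          exact ih
      intro n
      induction n with
      | zero => simp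
      | succ n ih =>
        rw [show 2 * (n + 1) = 2 * n + 1 + 1 by ring, Finset.sum_range_succ, Finset.sum_range_succ, ih,
          (hpar n).1, (hpar n).2]
        ring
    exact key m
  by_contra hg
  simp only [Good, not_exists, not_and, not_le] at hg
  have g1 := hg (g3 1) (g3_ne_one 1)
  have g2 := hg (g3 r) (g3_ne_one r)
  have g0 := hg (uu 1) (fun h => by
    have := congrFun (congrFun (congrArg Subtype.val h) 0) 1
    simp [uu] at this)
  have he0 : e 0 = finrank K ↥(eig (σ (uu 1)) 1) := by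
    rw [he, hP, ← eig_eq_range_uproj σ hψp hpK, AddChar.map_zero_eq_one]
  have hrk := finrank_range_borel σ r
  have hrn := LinearMap.finrank_range_add_finrank_ker (borel σ r)
  have h5 : 5 * (e 1 + e (r : ZMod p)) ≤ m * (e 1 + e (r : ZMod p)) := Nat.mul_le_mul_right _ (by omega)
  omega

end CfsgLib.FixedSpace
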