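import Cfsg.Agent.Lib.FixedSpace.Quat
import Cfsg.Agent.Lib.Classical.SL2Structure
import Cfsg.Agent.Lib.Classical.SL2Sylow
import Cfsg.Agent.Lib.Transfer.RankTwo
import Cfsg.Agent.Lib.OddLocal.PrimeActionTools

/-!
# A section `SL(2,p)` with odd kernel lifts to a subgroup when no configuration giving large fixed spaces occurs
-/

set_option autoImplicit false
set_option linter.all false

namespace CfsgLib.FixedSpace

open Subgroup
open CfsgLib.Known.E8SL2 (uu ww tt negOne SL)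
open scoped commutatorElement

/-- Two commuting elements of order dividing `r` generate a cyclic group. -/
def NoPair (r : ℕ) (H : Type*) [Group H] : Prop :=
  ∀ a b : H, a ^ r = 1 → b ^ r = 1 → Commute a b → b ≠ 1 → ∃ k : ℕ, a = b ^ k

/-- An element of order three centralises its commuting conjugate pairs. -/
def Still (H : Type*) [Group H] : Prop :=
  ∀ x a : H, x ^ 3 = 1 → Nat.Coprime (orderOf a) 3 → Commute a (x * a * x⁻¹) → x * a * x⁻¹ = a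

variable {H : Type*} [Group H]

theorem NoPair.of_hom {G : Type*} [Group G] {r : ℕ} (h : NoPair r H) (f : G →* H) (hf : Function.Injective f) :
    NoPair r G := by
  intro a b ha hb hab hb1
  obtain ⟨k, hk⟩ := h (f a) (f b) (by rw [← map_pow, ha, map_one]) (by rw [← map_pow, hb, map_one]) (hab.map f)
    fun e => hb1 (hf (e.trans (map_one f).symm))
  exact ⟨k, hf (by rw [hk, map_pow])⟩

theorem Still.of_hom {G : Type*} [Group G] (h : Still H) (f : G →* H) (hf : Function.Injective f) : Still G := by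
  intro x a hx ha hc
  refine hf ?_
  rw [map_mul, map_mul, map_inv]
  refine h (f x) (f a) (by rw [← map_pow, hx, map_one]) (by rwa [orderOf_injective f hf]) ?_
  simpa using hc.map f

theorem NoPair.isCyclic [Finite H] {r : ℕ} [Fact r.Prime] (hr : r ≠ 2) (h : NoPair r H) {P : Subgroup H}
    (hP : IsPGroup r P) : IsCyclic P := by
  classical
  have hr' : r.Prime := Fact.out
  by_contra hnc
  obtain ⟨A, -, hA, hA2⟩ := CfsgLib.Transfer.exists_normal_elementary_card_sq hr hP hnc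
  obtain ⟨b, hb, hb1⟩ : ∃ b ∈ A, b ≠ 1 := by
    by_contra hc
    simp only [not_exists, not_and, not_not] at hc
    have : A = ⊥ := (Subgroup.eq_bot_iff_forall A).2 hc
    rw [this, Subgroup.card_bot] at hA2
    exact absurd hA2.symm (one_lt_pow₀ hr'.one_lt two_ne_zero).ne'
  have hsub : A ≤ zpowers b := by
    intro a ha
    have hcomm : Commute a b := by
      have := hA.1.is_comm.comm ⟨a, ha⟩ ⟨b, hb⟩
      exact congrArg Subtype.val this
    obtain ⟨k, hk⟩ := h.of_hom P.subtype P.subtype_injective a b (hA.2 a ha) (hA.2 b hb) hcomm hb1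
    exact hk ▸ pow_mem (mem_zpowers b) k
  have hcard := Subgroup.card_le_of_le hsub
  rw [hA2, Nat.card_zpowers] at hcard
  have := Nat.le_of_dvd hr'.pos (orderOf_dvd_of_pow_eq_one (hA.2 b hb))
  nlinarith [hr'.two_le]

/-- An odd central subgroup of a group with abelian Sylow subgroups misses the derived group. -/
theorem central_eq_one [Finite H] (hperf : commutator H = ⊤) {c : H} (hc : c ∈ center H)
    (hab : ∀ (r : ℕ) [Fact r.Prime], r ∣ orderOf c → ∀ P : Sylow r H, IsMulCommutative (P : Subgroup H)) : c = 1 := by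
  by_contra hne
  obtain ⟨r, hr, hd⟩ := Nat.exists_prime_and_dvd (fun e => hne (orderOf_eq_one_iff.1 e))
  haveI : Fact r.Prime := ⟨hr⟩
  obtain ⟨c', hc'⟩ : ∃ c', c' = c ^ (orderOf c / r) := ⟨_, rfl⟩
  have hcr : orderOf c' = r := hc' ▸ orderOf_pow_orderOf_div (orderOf_pos c).ne' hd
  obtain ⟨P, hP⟩ := (IsPGroup.of_card (p := r) (n := 1) (by rw [Nat.card_zpowers, hcr, pow_one]) :
    IsPGroup r (zpowers c')).exists_le_sylow
  have := CfsgLib.OddLocal.PrimeActionTools.eq_one_of_central P (hab r hd P) (hP (mem_zpowers c'))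
    (hc' ▸ (center H).pow_mem hc _) (hperf ▸ mem_top c')
  rw [this, orderOf_one] at hcr
  exact hr.ne_one hcr.symm

theorem commutator_ne_self {O C : Subgroup H} (hO : Group.IsNilpotent O) (hCO : C ≤ O) (hC : C ≠ ⊥) :
    ⁅C, O⁆ ≠ C := by
  intro e
  obtain ⟨n, hn⟩ := (Subgroup.isNilpotent_iff_lowerCentralSeries O).1 hO
  have : ∀ k, C ≤ O.lowerCentralSeries k := by
    intro k
    induction k with
    | zero => simpa using hCO
    | succ k ih => rw [Subgroup.lowerCentralSeries_succ, ← e]; exact commutator_mono ih le_rfl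
  exact hC (le_bot_iff.1 (hn ▸ this n))

theorem exists_lift_three [Finite H] {G : Type*} [Group G] (π : H →* G) (hsurj : Function.Surjective π)
    (h3 : ¬ 3 ∣ Nat.card π.ker) {x₀ : G} (hx₀ : x₀ ^ 3 = 1) : ∃ x : H, x ^ 3 = 1 ∧ π x = x₀ := by
  obtain ⟨y, hy⟩ := hsurj x₀
  obtain ⟨n, hn⟩ : ∃ n, n = Nat.card π.ker := ⟨_, rfl⟩
  have hy3 : (y ^ 3) ^ n = 1 := by
    rw [hn]
    have hmem : y ^ 3 ∈ π.ker := by rw [MonoidHom.mem_ker, map_pow, hy, hx₀]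
    have := pow_card_eq_one' (x := (⟨y ^ 3, hmem⟩ : π.ker))
    exact congrArg Subtype.val this
  obtain ⟨k, hk⟩ := Nat.exists_mul_mod_eq_one_of_coprime (n := n) (k := 3)
    ((Nat.prime_three.coprime_iff_not_dvd.2 (hn ▸ h3)).symm) (by norm_num)
  refine ⟨y ^ (n * k), ?_, ?_⟩
  · rw [← pow_mul, show n * k * 3 = 3 * n * k by ring, pow_mul, pow_mul, hy3, one_pow]
  · rw [map_pow, hy]
    conv_lhs => rw [← Nat.mod_add_div (n * k) 3, pow_add, pow_mul, hx₀, one_pow, mul_one, hk.2, pow_one]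

/-- The kernel is central. -/
theorem ker_le_center [Finite H] {p : ℕ} [Fact p.Prime] (hp : 7 ≤ p) (π : H →* SL (ZMod p))
    (hsurj : Function.Surjective π) (hperf : commutator H = ⊤)
    (hmin : ∀ M : Subgroup H, M.map π = ⊤ → M = ⊤)
    (hnil : Group.IsNilpotent π.ker) (hodd : Odd (Nat.card π.ker)) (h3 : ¬ 3 ∣ Nat.card π.ker)
    {z : H} (hz : z ∈ center H) (hπz : π z = negOne (ZMod p)) (hstill : Still H) :
    π.ker ≤ center H := by
  classical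
  by_contra hnot
  obtain ⟨O, hO⟩ : ∃ O, O = π.ker := ⟨_, rfl⟩
  have hOn : O.Normal := hO ▸ π.normal_ker
  -- a minimal non-central normal subgroup inside the kernel
  obtain ⟨C, hC⟩ := exists_minimal_of_wellFoundedLT
    (fun C : Subgroup H => C.Normal ∧ C ≤ O ∧ ¬ C ≤ center H) ⟨O, hOn, le_rfl, hO ▸ hnot⟩
  obtain ⟨⟨hCn, hCO, hCc⟩, -⟩ := And.intro hC.prop hC
  have hsmall : ∀ D : Subgroup H, D.Normal → D ≤ C → D ≠ C → D ≤ center H := by
    intro D hD hDC hne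
    by_contra hDc
    exact hne (le_antisymm hDC (hC.le_of_le ⟨hD, hDC.trans hCO, hDc⟩ hDC))
  have hCne : C ≠ ⊥ := fun e => hCc (e ▸ bot_le)
  have hCOc : ⁅C, O⁆ ≤ center H :=
    hsmall _ inferInstance (commutator_le_left C O) (commutator_ne_self (hO ▸ hnil) hCO hCne)
  have hcomm : ∀ c ∈ C, ∀ o ∈ O, c * o * c⁻¹ * o⁻¹ ∈ center H := fun c hc o ho =>
    hCOc (commutator_mem_commutator hc ho)
  obtain ⟨mk, hmk⟩ : ∃ mk : H →* H ⧸ center H, mk = QuotientGroup.mk' (center H) := ⟨_, rfl⟩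
  have hmk1 : ∀ g, mk g = 1 ↔ g ∈ center H := fun g => hmk ▸ QuotientGroup.eq_one_iff g
  have hCcomm : ∀ c ∈ C, ∀ d ∈ C, Commute (mk c) (mk d) := by
    intro c hc d hd
    have h := (hmk1 _).2 (hcomm c hc d (hCO hd))
    rw [map_mul, map_mul, map_mul, map_inv, map_inv, mul_inv_eq_one, mul_inv_eq_iff_eq_mul] at h
    exact h
  -- the kernel of the action on classes
  obtain ⟨K, hK⟩ : ∃ K : Subgroup H, ∀ g, g ∈ K ↔ ∀ c ∈ C, mk (g * c * g⁻¹) = mk c := by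
    refine ⟨{ carrier := {g | ∀ c ∈ C, mk (g * c * g⁻¹) = mk c}
              mul_mem' := ?_, one_mem' := ?_, inv_mem' := ?_ }, fun g => Iff.rfl⟩
    · intro u v hu hv c hc
      rw [show u * v * c * (u * v)⁻¹ = u * (v * c * v⁻¹) * u⁻¹ by group,
        hu _ (hCn.conj_mem c hc v), hv c hc]
    · intro c hc; simp
    · intro u hu c hc
      have h := hu _ (hCn.conj_mem c hc u⁻¹)
      rw [show u * (u⁻¹ * c * u⁻¹⁻¹) * u⁻¹ = c by group] at h
      exact h.symm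
  have hKn : K.Normal := ⟨fun k hk g => (hK _).2 fun c hc => by
    have h := (hK k).1 hk _ (hCn.conj_mem c hc g⁻¹)
    rw [show g * k * g⁻¹ * c * (g * k * g⁻¹)⁻¹ = g * (k * (g⁻¹ * c * g⁻¹⁻¹) * k⁻¹) * g⁻¹ by group]
    rw [map_mul, map_mul, h, ← map_mul, ← map_mul]
    congr 1; group⟩
  have hOK : O ≤ K := fun o ho => (hK o).2 fun c hc => by
    have hcen := hcomm c hc o ho
    rw [hmk, QuotientGroup.mk'_apply, QuotientGroup.mk'_apply, QuotientGroup.eq]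
    rw [show (o * c * o⁻¹)⁻¹ * c = (c⁻¹ * o * c⁻¹⁻¹ * o⁻¹)⁻¹ by group]
    exact (center H).inv_mem (hcomm c⁻¹ (C.inv_mem hc) o ho)
  have hKtop : K ≠ ⊤ := by
    intro e
    apply hCc
    have h1 : ⁅C, (⊤ : Subgroup H)⁆ ≤ center H := commutator_le.2 fun c hc g _ => by
      have h := (hK g).1 (e ▸ mem_top g) c hc
      rw [hmk, QuotientGroup.mk'_apply, QuotientGroup.mk'_apply, eq_comm, QuotientGroup.eq_iff_div_mem,
        div_eq_mul_inv, show c * (g * c * g⁻¹)⁻¹ = c * g * c⁻¹ * g⁻¹ by group] at h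
      exact h
    have h2 : ⁅⁅C, (⊤ : Subgroup H)⁆, (⊤ : Subgroup H)⁆ = ⊥ := by
      rw [commutator_eq_bot_iff_le_centralizer, Subgroup.coe_top, centralizer_univ]
      exact h1
    have h2' : ⁅⁅(⊤ : Subgroup H), C⁆, (⊤ : Subgroup H)⁆ = ⊥ := by rwa [commutator_comm ⊤ C]
    have h3 := commutator_commutator_eq_bot_of_rotate h2' h2
    rw [← _root_.commutator_def, hperf, commutator_comm, commutator_eq_bot_iff_le_centralizer, Subgroup.coe_top,
      centralizer_univ] at h3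
    exact h3
  have hπK : K.map π ≤ center (SL (ZMod p)) := by
    haveI : (K.map π).Normal := hKn.map π hsurj
    exact normal_le_center (by omega) _ fun e => hKtop (hmin K e)
  have hsame : ∀ g g' : H, π g = π g' ∨ π g = negOne (ZMod p) * π g' → ∀ c ∈ C,
      mk (g * c * g⁻¹) = mk (g' * c * g'⁻¹) := by
    intro g g' h c hc
    have hmem : g'⁻¹ * g ∈ K := by
      rcases h with h | h
      · exact hOK (hO ▸ (by rw [MonoidHom.mem_ker, map_mul, map_inv, h, inv_mul_cancel]))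
      · have h' : g'⁻¹ * g * z⁻¹ ∈ K := hOK (hO ▸ (by
          rw [MonoidHom.mem_ker, map_mul, map_mul, map_inv, map_inv, hπz, h, (negOne_comm (π g')).eq,
            inv_mul_cancel_left, mul_inv_cancel]))
        have hzK : z ∈ K := (hK z).2 fun c' _ => by rw [← mem_center_iff.1 hz c', mul_inv_cancel_right]
        simpa using K.mul_mem h' hzK
    have e : g * c * g⁻¹ = g' * ((g'⁻¹ * g) * c * (g'⁻¹ * g)⁻¹) * g'⁻¹ := by group
    rw [e, map_mul, map_mul, (hK _).1 hmem c hc, ← map_mul, ← map_mul]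
  obtain ⟨q₀, x₀, hx₀, hq₀, hq₀c, hanti, hxx⟩ := exists_quat (p := p) (by omega)
  obtain ⟨q, hq⟩ := hsurj q₀
  obtain ⟨x, hx3, hx⟩ := exists_lift_three π hsurj h3 hx₀
  obtain ⟨α, hα⟩ : ∃ α : H → H, ∀ c, α c = x * c * x⁻¹ := ⟨_, fun _ => rfl⟩
  obtain ⟨q', hq'⟩ : ∃ q', q' = x * q * x⁻¹ := ⟨_, rfl⟩
  obtain ⟨q'', hq''⟩ : ∃ q'', q'' = x * q' * x⁻¹ := ⟨_, rfl⟩
  have hπq' : π q' = x₀ * q₀ * x₀⁻¹ := by rw [hq', map_mul, map_mul, map_inv, hx, hq]
  have hπq'' : π q'' = q₀ * (x₀ * q₀ * x₀⁻¹) := by rw [hq'', map_mul, map_mul, map_inv, hπq', hx, hxx]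
  have hq''x : x * q'' * x⁻¹ = q := by
    have e : x * x * x = 1 := by rw [← hx3, pow_succ, pow_two]
    rw [hq'', hq']
    calc x * (x * (x * q * x⁻¹) * x⁻¹) * x⁻¹ = (x * x * x) * q * (x * x * x)⁻¹ := by group
      _ = q := by rw [e, one_mul, inv_one, mul_one]
  -- the actions on classes
  have hcl' : ∀ g c d, mk c = mk d → mk (g * c * g⁻¹) = mk (g * d * g⁻¹) := by
    intro g c d h
    rw [map_mul, map_mul, h, ← map_mul, ← map_mul]
  have hconjmul : ∀ g h c, mk (g * h * c * (g * h)⁻¹) = mk (g * (h * c * h⁻¹) * g⁻¹) := by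
    intro g h c; congr 1; group
  have hinvol : ∀ g, π (g * g) = negOne (ZMod p) → ∀ c ∈ C, mk (g * (g * c * g⁻¹) * g⁻¹) = mk c := by
    intro g hg c hc
    rw [← hconjmul, hsame (g * g) 1 (Or.inr (by rw [hg, map_one, mul_one])) c hc]
    simp
  have hqq : π (q * q) = negOne (ZMod p) := by rw [map_mul, hq, hq₀]
  have hq'q' : π (q' * q') = negOne (ZMod p) := by
    rw [map_mul, hπq', show x₀ * q₀ * x₀⁻¹ * (x₀ * q₀ * x₀⁻¹) = x₀ * (q₀ * q₀) * x₀⁻¹ by group, hq₀,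
      ← (negOne_comm x₀).eq, mul_inv_cancel_right]
  have hcom : ∀ c ∈ C, mk (q * (q' * c * q'⁻¹) * q⁻¹) = mk (q' * (q * c * q⁻¹) * q'⁻¹) := by
    intro c hc
    rw [← hconjmul, ← hconjmul]
    exact hsame _ _ (Or.inr (by rw [map_mul, map_mul, hq, hπq', hanti])) c hc
  have hprod : ∀ c ∈ C, mk (q'' * c * q''⁻¹) = mk (q * (q' * c * q'⁻¹) * q⁻¹) := by
    intro c hc
    rw [← hconjmul]
    exact hsame _ _ (Or.inl (by rw [map_mul, hq, hπq', hπq''])) c hc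
  -- a class moved by the four group
  obtain ⟨c0, hc0, hc0m⟩ : ∃ c ∈ C, mk (q * c * q⁻¹) ≠ mk c := by
    by_contra hc
    simp only [not_exists, not_and, not_not] at hc
    exact hq₀c (hq ▸ hπK (mem_map_of_mem π ((hK q).2 hc)))
  obtain ⟨n, hn⟩ := hodd
  have hoddC : ∀ c ∈ C, mk (c * c) = 1 → mk c = 1 := by
    intro c hc h
    have hpow : c ^ (2 * n + 1) = 1 := by
      have := pow_card_eq_one' (x := (⟨c, hO ▸ hCO hc⟩ : π.ker))
      rw [hn] at this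
      exact congrArg Subtype.val this
    have h' : mk c ^ (2 * n + 1) = 1 := by rw [← map_pow, hpow, map_one]
    rw [map_mul, ← pow_two] at h
    rwa [pow_succ, pow_mul, h, one_pow, one_mul] at h'
  obtain ⟨c1, hc1, hc1C, hc1ne⟩ : ∃ c1, c1 = c0⁻¹ * (q * c0 * q⁻¹) ∧ c1 ∈ C ∧ mk c1 ≠ 1 :=
    ⟨_, rfl, C.mul_mem (C.inv_mem hc0) (hCn.conj_mem c0 hc0 q), fun e => hc0m (by
      rw [map_mul, map_inv, inv_mul_eq_one] at e; exact e.symm)⟩
  have hqc1 : mk (q * c1 * q⁻¹) = (mk c1)⁻¹ := by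
    rw [hc1, show q * (c0⁻¹ * (q * c0 * q⁻¹)) * q⁻¹ = (q * c0 * q⁻¹)⁻¹ * (q * (q * c0 * q⁻¹) * q⁻¹) by group,
      map_mul, hinvol q hqq c0 hc0]
    simp only [map_mul, map_inv]
    group
  obtain ⟨w, hw⟩ : ∃ w, w = q' * c1 * q'⁻¹ := ⟨_, rfl⟩
  have hwC : w ∈ C := hw ▸ hCn.conj_mem c1 hc1C q'
  have hqw : mk (q * w * q⁻¹) = (mk w)⁻¹ := by
    rw [hw, hcom c1 hc1C, hcl' q' (q * c1 * q⁻¹) c1⁻¹ (by rw [hqc1, map_inv]),
      show q' * c1⁻¹ * q'⁻¹ = (q' * c1 * q'⁻¹)⁻¹ by group, map_inv]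
  have hq'w : mk (q' * w * q'⁻¹) = mk c1 := hw ▸ hinvol q' hq'q' c1 hc1C
  have hex : ∃ e ∈ C, mk e ≠ 1 ∧ ((mk (q' * e * q'⁻¹) = mk e ∧ mk (q'' * e * q''⁻¹) = (mk e)⁻¹) ∨
      (mk (q'' * e * q''⁻¹) = mk e ∧ mk (q * e * q⁻¹) = (mk e)⁻¹)) := by
    have hcw := hCcomm c1 hc1C w hwC
    by_cases hd : mk (c1 * w) = 1
    · refine ⟨c1, hc1C, hc1ne, Or.inr ⟨?_, hqc1⟩⟩
      have hwi : mk w = (mk c1)⁻¹ := by rw [map_mul] at hd; exact eq_inv_of_mul_eq_one_right hd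
      rw [hprod c1 hc1C, ← hw, hqw, hwi, inv_inv]
    · refine ⟨c1 * w, C.mul_mem hc1C hwC, hd, Or.inl ⟨?_, ?_⟩⟩
      · rw [show q' * (c1 * w) * q'⁻¹ = (q' * c1 * q'⁻¹) * (q' * w * q'⁻¹) by group, map_mul, hq'w, ← hw, map_mul]
        exact hcw.symm.eq
      · rw [hprod _ (C.mul_mem hc1C hwC),
          show q * (q' * (c1 * w) * q'⁻¹) * q⁻¹ = q * (q' * c1 * q'⁻¹) * q⁻¹ * (q * (q' * w * q'⁻¹) * q⁻¹) by group,
          map_mul, ← hw, hqw, hcl' q _ c1 hq'w, hqc1, map_mul, _root_.mul_inv_rev]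
  obtain ⟨e, heC, hene, he⟩ := hex
  obtain ⟨Q, hfix, hinv⟩ : ∃ Q, mk (Q * e * Q⁻¹) = mk e ∧ mk (x * Q * x⁻¹ * e * (x * Q * x⁻¹)⁻¹) = (mk e)⁻¹ := by
    rcases he with ⟨h1, h2⟩ | ⟨h1, h2⟩
    · exact ⟨q', h1, by rwa [← hq'']⟩
    · exact ⟨q'', h1, by rwa [hq''x]⟩
  obtain ⟨Q', hQ'⟩ : ∃ Q', Q' = x * Q * x⁻¹ := ⟨_, rfl⟩
  rw [← hQ'] at hinv
  have he'C : x * e * x⁻¹ ∈ C := hCn.conj_mem e heC x
  have hfix' : mk (Q' * (x * e * x⁻¹) * Q'⁻¹) = mk (x * e * x⁻¹) := by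
    rw [hQ', show x * Q * x⁻¹ * (x * e * x⁻¹) * (x * Q * x⁻¹)⁻¹ = x * (Q * e * Q⁻¹) * x⁻¹ by group]
    exact hcl' x _ _ hfix
  -- the pair commutes
  obtain ⟨κ, hκ⟩ : ∃ κ, κ = e * (x * e * x⁻¹) * e⁻¹ * (x * e * x⁻¹)⁻¹ := ⟨_, rfl⟩
  have hκc : κ ∈ center H := hκ ▸ hcomm e heC _ (hCO he'C)
  obtain ⟨z1, hz1, hz1e⟩ : ∃ z1 ∈ center H, Q' * e * Q'⁻¹ = z1 * e⁻¹ :=
    ⟨Q' * e * Q'⁻¹ * e, (hmk1 _).1 (by rw [map_mul, hinv, inv_mul_cancel]), by group⟩
  obtain ⟨z2, hz2, hz2e⟩ : ∃ z2 ∈ center H, Q' * (x * e * x⁻¹) * Q'⁻¹ = z2 * (x * e * x⁻¹) :=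
    ⟨Q' * (x * e * x⁻¹) * Q'⁻¹ * (x * e * x⁻¹)⁻¹, (hmk1 _).1 (by rw [map_mul, map_inv, hfix', mul_inv_cancel]),
      by group⟩
  have hκinv : κ = κ⁻¹ := by
    obtain ⟨f, hf⟩ : ∃ f, f = x * e * x⁻¹ := ⟨_, rfl⟩
    rw [← hf] at hκ hz2e
    have h1 : Q' * κ * Q'⁻¹ = e⁻¹ * f * e * f⁻¹ := by
      rw [hκ, show Q' * (e * f * e⁻¹ * f⁻¹) * Q'⁻¹ =
        (Q' * e * Q'⁻¹) * (Q' * f * Q'⁻¹) * (Q' * e * Q'⁻¹)⁻¹ * (Q' * f * Q'⁻¹)⁻¹ by group, hz1e, hz2e]
      have c1' := fun g => mem_center_iff.1 hz1 g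
      have c2' := fun g => mem_center_iff.1 hz2 g
      calc z1 * e⁻¹ * (z2 * f) * (z1 * e⁻¹)⁻¹ * (z2 * f)⁻¹
          = z1 * ((e⁻¹ * z2) * f * e) * z1⁻¹ * f⁻¹ * z2⁻¹ := by group
        _ = z1 * (z2 * (e⁻¹ * f * e)) * z1⁻¹ * f⁻¹ * z2⁻¹ := by rw [c2' e⁻¹]; group
        _ = z2 * (e⁻¹ * f * e * f⁻¹) * z2⁻¹ := by rw [← c1' (z2 * (e⁻¹ * f * e))]; group
        _ = e⁻¹ * f * e * f⁻¹ := by rw [← c2' (e⁻¹ * f * e * f⁻¹)]; group
    have h2 : Q' * κ * Q'⁻¹ = κ := by rw [mem_center_iff.1 hκc Q', mul_inv_cancel_right]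
    rw [h2] at h1
    have h3 : e⁻¹ * f * e * f⁻¹ = e⁻¹ * κ⁻¹ * e := by rw [hκ]; group
    rwa [h3, mem_center_iff.1 ((center H).inv_mem hκc) e⁻¹, inv_mul_cancel_right] at h1
  have hκ1 : κ = 1 := by
    have hmem : κ ∈ π.ker := hO ▸ hκ ▸ O.mul_mem (O.mul_mem (O.mul_mem (hCO heC) (hCO he'C))
      (O.inv_mem (hCO heC))) (O.inv_mem (hCO he'C))
    have hpow : κ ^ (2 * n + 1) = 1 := by
      have := pow_card_eq_one' (x := (⟨κ, hmem⟩ : π.ker))
      rw [hn] at this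
      exact congrArg Subtype.val this
    have hsq : κ ^ 2 = 1 := by rw [pow_two]; exact mul_eq_one_iff_eq_inv.2 hκinv
    rwa [pow_succ, pow_mul, hsq, one_pow, one_mul] at hpow
  have hcomm' : Commute e (x * e * x⁻¹) := by
    rw [hκ1, eq_comm, mul_inv_eq_one, mul_inv_eq_iff_eq_mul] at hκ
    exact hκ
  have hcop : Nat.Coprime (orderOf e) 3 := by
    refine (Nat.prime_three.coprime_iff_not_dvd.2 fun h => h3 (h.trans ?_)).symm
    exact Subgroup.orderOf_dvd_natCard π.ker (hO ▸ hCO heC)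
  have hfin := hstill x e hx3 hcop hcomm'
  rw [hfin] at hfix'
  rw [hfix'] at hinv
  exact hene (hoddC e heC (by rw [map_mul]; exact mul_eq_one_iff_eq_inv.2 hinv))

end CfsgLib.FixedSpace
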