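import Cfsg.Agent.Lib.FixedSpace.Model
import Cfsg.Agent.Lib.FixedSpace.Coprime

/-!
# `SL(2,p)`, `p ≥ 7`: some non-identity element fixes a sixth of the space
-/

set_option autoImplicit false
set_option linter.all false

namespace CfsgLib.FixedSpace

open Module Matrix
open CfsgLib.Perm.AltSection (eig mem_eig pow_eig proj apply_proj sum_proj)
open CfsgLib.Known.E8SL2 (uu ww tt negOne uu_add uu_zero uu_inv tt_mul tt_one tt_uu SL Pts move move_one move_mul
  move_smulP funRep funRep_apply p0 smulP exists_sec eq_tt_uu Fd Vd exists_eq_Vd)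

theorem seven_facts : (2 : ZMod 7) * 4 = 1 ∧ (4 : ZMod 7) * 2 = 1 ∧ (2 : ZMod 7) ^ 3 = 1 ∧ (4 : ZMod 7) ≠ 1 := by
  decide

variable {p : ℕ} [Fact p.Prime] {K : Type*} [Field K]

section NoChar

variable {V : Type*} [AddCommGroup V] [Module K V]

theorem fixed_all (σ : Representation K (SL (ZMod p)) V) {v : V} (h : σ (uu 1) v = v) (t : ZMod p) :
    σ (uu t) v = v := by
  obtain ⟨n, rfl⟩ := ZMod.natCast_zmod_surjective t
  induction n with
  | zero => simp [uu_zero]
  | succ n ih => rw [Nat.cast_succ, uu_add, map_mul, End.mul_apply, h, ih]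

end NoChar

variable [CharP K p] {V : Type*} [AddCommGroup V] [Module K V]

theorem exists_fixed_one (hp : 3 ≤ p) [Nontrivial V] (σ : Representation K (SL (ZMod p)) V) :
    ∃ v : V, v ≠ 0 ∧ σ (uu 1) v = v := by
  by_contra hc
  simp only [not_exists, not_and] at hc
  obtain ⟨R, -, -, hD⟩ := exists_unit_factor hp σ
  have hinj : ∀ v, (σ (uu (1 : ZMod p)) - 1) v = 0 → v = 0 := fun v hv => by
    by_contra hv0
    exact hc v hv0 (by simpa [sub_eq_zero] using hv)
  have hall : ∀ (n : ℕ) (v : V), ((σ (uu (1 : ZMod p)) - 1) ^ n) v = 0 → v = 0 := by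
    intro n
    induction n with
    | zero => intro v hv; simpa using hv
    | succ n ih => intro v hv; rw [pow_succ, End.mul_apply] at hv; exact hinj v (ih _ hv)
  obtain ⟨v, hv⟩ := exists_ne (0 : V)
  exact hv (hall p v (by rw [hD]; rfl))

/-- An irreducible representation is a space of homogeneous polynomial functions. -/
theorem exists_model {m : ℕ} (hm : p = 2 * m + 1) (hm3 : 3 ≤ m) {r : (ZMod p)ˣ} (hr : orderOf r = 2 * m)
    [Nontrivial V] (σ : Representation K (SL (ZMod p)) V)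
    (hirr : ∀ U : Submodule K V, (∀ g, ∀ v ∈ U, σ g v ∈ U) → U = ⊥ ∨ U = ⊤) :
    ∃ (d : ℕ) (e : V ≃ₗ[K] ↥(Vd (cst p K) d)), d ≤ 2 * m ∧ ∀ g v, e (σ g v) = vdRep p K d g (e v) := by
  classical
  have hp3 : 3 ≤ p := by omega
  obtain ⟨ρ, hρ⟩ : ∃ ρ : Representation K (SL (ZMod p)) (Dual K V), ∀ g ξ v, ρ g ξ v = ξ (σ g⁻¹ v) :=
    ⟨{ toFun := fun g => (σ g⁻¹).dualMap
       map_one' := LinearMap.ext fun ξ => LinearMap.ext fun v => by simp
       map_mul' := fun g h => LinearMap.ext fun ξ => LinearMap.ext fun v => by simp [End.mul_apply] },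
      fun _ _ _ => rfl⟩
  obtain ⟨ξ0, hξ0, hξ0fix⟩ := exists_fixed_one hp3 ρ
  have hζ : IsPrimitiveRoot (cst p K (r : ZMod p)) (2 * m) := cst_pow_inj hr
  have hn0 : ((2 * m : ℕ) : K) ≠ 0 := fun e => by
    rw [CharP.cast_eq_zero_iff K p] at e
    have := Nat.le_of_dvd (by omega) e
    omega
  have hT : ρ (tt r) ^ (2 * m) = 1 := by rw [← map_pow, tt_pow, ← hr, pow_orderOf_eq_one, tt_one, map_one]
  have hTfix : ∀ (j : ℕ) (t : ZMod p), ρ (uu t) ((ρ (tt r) ^ j) ξ0) = (ρ (tt r) ^ j) ξ0 := by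
    intro j
    induction j with
    | zero => intro t; exact fixed_all ρ hξ0fix t
    | succ j ih =>
      intro t
      obtain ⟨c, hc⟩ : ∃ c, c = t * ((r⁻¹ : (ZMod p)ˣ) : ZMod p) * ((r⁻¹ : (ZMod p)ˣ) : ZMod p) := ⟨_, rfl⟩
      have e : uu t * tt r = tt r * uu c := by
        rw [tt_uu, hc]
        congr 2
        rw [Units.val_inv_eq_inv_val]
        field_simp
      rw [pow_succ', End.mul_apply, ← End.mul_apply (ρ (uu t)), ← map_mul, e, map_mul, End.mul_apply, ih c]
  obtain ⟨j, hj, hξ⟩ : ∃ j < 2 * m, proj (ρ (tt r)) (2 * m) (cst p K (r : ZMod p) ^ j) ξ0 ≠ 0 := by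
    by_contra hc
    simp only [not_exists, not_and, not_not] at hc
    apply hξ0
    rw [← sum_proj (t := ρ (tt r)) hζ hn0 ξ0]
    exact Finset.sum_eq_zero fun j hj => hc j (Finset.mem_range.1 hj)
  obtain ⟨ξ, hξe⟩ : ∃ ξ, ξ = proj (ρ (tt r)) (2 * m) (cst p K (r : ZMod p) ^ j) ξ0 := ⟨_, rfl⟩
  rw [← hξe] at hξ
  have hξt : ρ (tt r) ξ = cst p K (r : ZMod p) ^ j • ξ := by
    rw [hξe]
    exact apply_proj hT (pow_ne_zero _ (hζ.ne_zero (by omega)))
      (by rw [← pow_mul, mul_comm, pow_mul, hζ.pow_eq_one, one_pow]) ξ0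
  have hξfix : ∀ t, ρ (uu t) ξ = ξ := fun t => by
    simp only [hξe, proj, LinearMap.smul_apply, LinearMap.sum_apply, map_smul, map_sum, hTfix]
  obtain ⟨d, hd1, hdj⟩ : ∃ d, (1 ≤ d ∧ d ≤ 2 * m) ∧ cst p K (r : ZMod p) ^ d = cst p K (r : ZMod p) ^ j := by
    rcases Nat.eq_zero_or_pos j with rfl | h
    · exact ⟨2 * m, ⟨by omega, le_rfl⟩, by rw [hζ.pow_eq_one, pow_zero]⟩
    · exact ⟨j, ⟨h, hj.le⟩, rfl⟩
  have hξa : ∀ (a : (ZMod p)ˣ) (v : V), ξ (σ (tt a)⁻¹ v) = cst p K (a : ZMod p) ^ d * ξ v := by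
    intro a
    obtain ⟨k, rfl⟩ : ∃ k : ℕ, r ^ k = a := by
      have htop : Subgroup.zpowers r = ⊤ := Subgroup.eq_top_of_card_eq _ (by
        rw [Nat.card_zpowers, hr, Nat.card_eq_fintype_card, Fintype.card_units, ZMod.card]; omega)
      exact mem_powers_iff_mem_zpowers.2 (htop ▸ Subgroup.mem_top a)
    induction k with
    | zero => intro v; simp [tt_one]
    | succ k ih =>
      intro v
      have h3 := congrArg (fun η : Dual K V => η (σ (tt (r ^ k))⁻¹ v)) hξt
      simp only [hρ, LinearMap.smul_apply, smul_eq_mul] at h3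
      rw [pow_succ, tt_mul, _root_.mul_inv_rev, map_mul, End.mul_apply, h3, ih, ← hdj]
      push_cast
      rw [map_mul, mul_pow]
      ring
  choose sec hsec using exists_sec (F := ZMod p)
  obtain ⟨Ψ, hΨ⟩ : ∃ Ψ : V →ₗ[K] Pts (ZMod p) → K, ∀ v x, Ψ v x = ξ (σ (sec x)⁻¹ v) :=
    ⟨{ toFun := fun v x => ξ (σ (sec x)⁻¹ v)
       map_add' := fun a b => funext fun x => by simp
       map_smul' := fun c a => funext fun x => by simp }, fun _ _ => rfl⟩
  have hkey : ∀ (g : SL (ZMod p)) (c : (ZMod p)ˣ) (x : Pts (ZMod p)) (v : V),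
      move g (p0 (ZMod p)) = smulP c x → ξ (σ g⁻¹ v) = cst p K (c : ZMod p) ^ d * Ψ v x := by
    intro g c x v h
    obtain ⟨b, hb⟩ := eq_tt_uu (h := (sec x)⁻¹ * g) (a := c) (by
      rw [move_mul, h, move_smulP]
      congr 1
      conv_lhs => arg 2; rw [← hsec x]
      rw [← move_mul, inv_mul_cancel, move_one])
    have e : g = sec x * (tt c * uu b) := by rw [← hb, mul_inv_cancel_left]
    rw [e, _root_.mul_inv_rev, _root_.mul_inv_rev, map_mul, map_mul, End.mul_apply, End.mul_apply, hΨ]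
    have h4 := congrArg (fun η : Dual K V => η (σ (tt c)⁻¹ (σ (sec x)⁻¹ v))) (hξfix b)
    simp only [hρ] at h4
    rw [h4, hξa]
  have hequi : ∀ (h : SL (ZMod p)) (v : V), Ψ (σ h v) = funRep h (Ψ v) := fun h v => funext fun x => by
    rw [funRep_apply, hΨ, ← End.mul_apply, ← map_mul, show (sec x)⁻¹ * h = (h⁻¹ * sec x)⁻¹ by group,
      hkey _ 1 (move h⁻¹ x) v (by rw [move_mul, hsec]; exact Subtype.ext (by simp [smulP])), Units.val_one, map_one,
      one_pow, one_mul]
  have hp0 : ∀ v, Ψ v (p0 (ZMod p)) = ξ v := fun v => by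
    have h := hkey 1 1 (p0 (ZMod p)) v (by rw [move_one]; exact Subtype.ext (by simp [smulP]))
    simpa using h.symm
  have hΨi : Function.Injective Ψ := LinearMap.ker_eq_bot.1 <| by
    rcases hirr (LinearMap.ker Ψ) (fun g v hv => by rw [LinearMap.mem_ker] at hv ⊢; rw [hequi, hv, map_zero]) with
      h | h
    · exact h
    · refine absurd (LinearMap.ext fun v => ?_) hξ
      rw [← hp0, LinearMap.mem_ker.1 (h ▸ Submodule.mem_top : v ∈ LinearMap.ker Ψ)]
      rfl
  obtain ⟨M, hM⟩ : ∃ M, M = LinearMap.range Ψ := ⟨_, rfl⟩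
  have hMF : M ≤ Fd (cst p K) d := by
    rw [hM]
    rintro _ ⟨v, rfl⟩ a x
    have h := hkey (sec (smulP a x)) a x v (hsec _)
    rw [← hΨ] at h
    exact h
  have hMinv : ∀ g, ∀ f ∈ M, funRep g f ∈ M := by
    rw [hM]
    rintro g _ ⟨v, rfl⟩
    exact ⟨σ g v, hequi g v⟩
  have hMirr : ∀ M' : Submodule K (Pts (ZMod p) → K), M' ≤ M → (∀ g, ∀ f ∈ M', funRep g f ∈ M') →
      M' = ⊥ ∨ M' = M := by
    intro M' hle hinv'
    have e : (M'.comap Ψ).map Ψ = M' := Submodule.map_comap_eq_self (hM ▸ hle)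
    rcases hirr (M'.comap Ψ) (fun g v hv => by
      rw [Submodule.mem_comap] at hv ⊢; rw [hequi]; exact hinv' g _ hv) with h | h
    · left; rw [← e, h, Submodule.map_bot]
    · right; rw [← e, h, Submodule.map_top, hM]
  obtain ⟨v0, hv0, hv0fix⟩ := exists_fixed_one hp3 σ
  obtain ⟨d', hd', hMd, -⟩ := exists_eq_Vd (cst p K) (by omega : d ≠ 0) (by rw [ZMod.card]; omega) hMinv hMF hMirr
    (f := Ψ v0) (hM ▸ ⟨v0, rfl⟩) (fun h => hv0 (hΨi (h.trans (map_zero Ψ).symm)))
    (fun b => by rw [← hequi, fixed_all σ hv0fix])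
  refine ⟨d', (LinearEquiv.ofInjective Ψ hΨi).trans (LinearEquiv.ofEq _ _ (hM.symm.trans hMd)), ?_, fun g v => ?_⟩
  · rcases hd' with h | h <;> omega
  · exact Subtype.ext (hequi g v)

/-- The inequality holds for every representation. -/
theorem ineq_all [IsAlgClosed K] {m : ℕ} (hm : p = 2 * m + 1) (hm3 : 3 ≤ m) {r : (ZMod p)ˣ}
    (hr : orderOf r = 2 * m) (n : ℕ) :
    ∀ {W : Type _} [AddCommGroup W] [Module K W] [FiniteDimensional K W] (σ : Representation K (SL (ZMod p)) W),
      finrank K W ≤ n → Ineq σ r m := by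
  classical
  obtain ⟨ω, hω⟩ := exists_primitive (K := K) 3 (fun e => by
    rw [CharP.cast_eq_zero_iff K p] at e
    have := Nat.le_of_dvd (by omega) e
    omega)
  induction n with
  | zero =>
    intro W _ _ _ σ hd
    unfold Ineq kp
    have h := Submodule.finrank_le (wt σ r 3 ⊓ LinearMap.ker (nop σ ^ m))
    omega
  | succ n ih =>
    intro W _ _ _ σ hd
    by_cases hsub : Subsingleton W
    · unfold Ineq kp
      have h := Submodule.finrank_le (wt σ r 3 ⊓ LinearMap.ker (nop σ ^ m))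
      have h0 : finrank K W = 0 := finrank_zero_of_subsingleton
      omega
    haveI := not_subsingleton_iff_nontrivial.1 hsub
    by_cases hirr : ∀ U : Submodule K W, (∀ g, ∀ v ∈ U, σ g v ∈ U) → U = ⊥ ∨ U = ⊤
    · obtain ⟨d, e, hd2, he⟩ := exists_model hm hm3 hr σ hirr
      let σ0 : Representation K (SL (ZMod p)) (↥(⊥ : Submodule K W)) :=
        { toFun := fun _ => 1, map_one' := rfl, map_mul' := fun _ _ => (one_mul _).symm }
      have h0 : Ineq σ0 r m := by
        unfold Ineq kp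
        have h := Submodule.finrank_le (wt σ0 r 3 ⊓ LinearMap.ker (nop σ0 ^ m))
        have h1 : finrank K ↥(⊥ : Submodule K W) = 0 := finrank_bot K W
        omega
      haveI : FiniteDimensional K ↥(Vd (cst p K) d) := e.finiteDimensional
      refine Ineq.extension (S := ↥(Vd (cst p K) d)) (Q := ↥(⊥ : Submodule K W)) hm hm3 hr
        (σS := vdRep p K d) (σQ := σ0) (i := e.symm.toLinearMap) (π := 0) (fun g s => ?_) (fun g v => ?_)
        e.symm.injective (fun x => ⟨0, Subsingleton.elim _ _⟩) ?_ (ineq_vdRep hm hm3 hr hd2 hω) h0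
      · apply e.injective
        simp only [LinearEquiv.coe_coe]
        rw [he, e.apply_symm_apply, e.apply_symm_apply]
      · exact Subsingleton.elim _ _
      · rw [LinearMap.ker_zero, LinearMap.range_eq_top]
        exact e.symm.surjective
    · simp only [not_forall, not_or] at hirr
      obtain ⟨U, hU, hU0, hU1⟩ := hirr
      have hUlt : finrank K ↥U < finrank K W := Submodule.finrank_lt hU1
      have hUpos : 1 ≤ finrank K ↥U := Submodule.one_le_finrank_iff.2 hU0
      have hq := U.finrank_quotient_add_finrank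
      obtain ⟨σS, hσS⟩ : ∃ σS : Representation K (SL (ZMod p)) ↥U, ∀ g s, U.subtype (σS g s) = σ g (U.subtype s) :=
        ⟨{ toFun := fun g => (σ g).restrict (hU g)
           map_one' := LinearMap.ext fun v => Subtype.ext (by simp)
           map_mul' := fun g h => LinearMap.ext fun v => Subtype.ext (by simp) }, fun _ _ => rfl⟩
      obtain ⟨σQ, hσQ⟩ : ∃ σQ : Representation K (SL (ZMod p)) (W ⧸ U), ∀ g v, U.mkQ (σ g v) = σQ g (U.mkQ v) :=
        ⟨{ toFun := fun g => U.mapQ U (σ g) (fun v hv => hU g v hv)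
           map_one' := Submodule.linearMap_qext _ (LinearMap.ext fun v => by simp)
           map_mul' := fun g h => Submodule.linearMap_qext _ (LinearMap.ext fun v => by simp) }, fun _ _ => rfl⟩
      exact Ineq.extension hm hm3 hr (σS := σS) (σQ := σQ) (i := U.subtype) (π := U.mkQ) hσS hσQ
        U.subtype_injective U.mkQ_surjective (by rw [Submodule.range_subtype, Submodule.ker_mkQ])
        (ih σS (by omega)) (ih σQ (by omega))

omit [CharP K p] in
/-- `SL(2,p)` for `p ≥ 7` in characteristic different from two and three. -/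
theorem good_SL2 [IsAlgClosed K] [FiniteDimensional K V] (hp : 7 ≤ p) (h2 : (2 : K) ≠ 0) (h3 : (3 : K) ≠ 0)
    (σ : Representation K (SL (ZMod p)) V) : Good σ := by
  classical
  have hp' : p.Prime := Fact.out
  by_cases hpK : (p : K) = 0
  · haveI : CharP K p := (CharP.charP_iff_prime_eq_zero hp').2 hpK
    obtain ⟨m, hm⟩ := hp'.odd_of_ne_two (by omega)
    obtain ⟨r, hr⟩ := IsCyclic.exists_generator (α := (ZMod p)ˣ)
    have hord : orderOf r = 2 * m := by
      rw [orderOf_eq_card_of_forall_mem_zpowers hr, Nat.card_eq_fintype_card, ZMod.card_units]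
      omega
    have h := bound hm (by omega) hord σ (ineq_all hm (by omega) hord _ σ le_rfl)
    by_contra hg
    simp only [Good, not_exists, not_and, not_le] at hg
    have g1 := hg (g3 1) (g3_ne_one 1)
    have g0 := hg (uu 1) (fun e => by
      have := congrFun (congrFun (congrArg Subtype.val e) 0) 1
      simp [uu] at this)
    omega
  · by_cases h11 : 11 ≤ p
    · exact good_coprime σ h11 hpK h2
    have h7 : p = 7 := by interval_cases p <;> first | rfl | (norm_num at hp')
    subst h7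
    obtain ⟨c, hc⟩ : ∃ c : (ZMod 7)ˣ, (c : ZMod 7) = 2 := ⟨⟨2, 4, seven_facts.1, seven_facts.2.1⟩, rfl⟩
    have hcc : c ^ 3 = 1 := Units.ext (by push_cast [hc]; exact seven_facts.2.2.1)
    have e : ∀ t, tt c * uu t * (tt c)⁻¹ = uu ((4 : ZMod 7) * t) := fun t => by
      rw [tt_uu, mul_inv_cancel_right, hc]
      congr 1
    refine good_of_three_moves σ h3 (x := tt c) (a := uu 1) ?_ ?_ ?_ ?_
    · have h1 : tt c ^ 3 = tt (c ^ 3) := by rw [pow_succ, pow_two, pow_succ, pow_two, tt_mul, tt_mul]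
      rw [h1, hcc, tt_one]
    · refine Nat.Coprime.coprime_dvd_left (orderOf_dvd_of_pow_eq_one (n := 7) ?_) (by norm_num)
      simp only [pow_succ, pow_zero, one_mul, ← uu_add]
      rw [← uu_zero]
      congr 1
    · rw [e]
      show uu (1 : ZMod 7) * uu _ = uu _ * uu 1
      rw [← uu_add, ← uu_add, add_comm]
    · rw [e]
      intro h
      have h' := congrFun (congrFun (congrArg Subtype.val h) 0) 1
      simp [uu] at h'
      exact seven_facts.2.2.2 h'

end CfsgLib.FixedSpace
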