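import Cfsg.Agent.Lib.FixedSpace.Core

/-!
# Lifting `SL(2,p)` from a section with odd kernel
-/

set_option autoImplicit false
set_option linter.all false

namespace CfsgLib.FixedSpace

open Subgroup
open CfsgLib.Known.E8SL2 (uu ww tt negOne SL)

universe u

theorem isCyclic_sylow_SL2 {p r : ℕ} [Fact p.Prime] [Fact r.Prime] (hr : r ≠ 2) (R : Sylow r (SL (ZMod p))) :
    IsCyclic (R : Subgroup (SL (ZMod p))) := by
  by_cases hrp : r = p
  · subst hrp
    exact isCyclic_of_prime_card ((CfsgLib.Classical.Two.card_sylow_SL_two r R).trans (ZMod.card _))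
  · exact CfsgLib.Classical.Two.isCyclic_sylow_odd p r hr hrp R

/-- The minimal case. -/
theorem injective_of_minimal {p : ℕ} [Fact p.Prime] (hp : 7 ≤ p) {X : Type u} [Group X] [Finite X]
    (π : X →* SL (ZMod p)) (hsurj : Function.Surjective π) (hodd : Odd (Nat.card π.ker))
    (hmin : ∀ M : Subgroup X, M.map π = ⊤ → M = ⊤) (h3p : NoPair 3 X) (hstill : Still X) :
    Function.Injective π := by
  classical
  haveI : Fact (Nat.Prime 3) := ⟨Nat.prime_three⟩
  have hperf : commutator X = ⊤ := hmin _ (by
    rw [_root_.commutator_def, map_commutator, ← MonoidHom.range_eq_map, MonoidHom.range_eq_top.2 hsurj,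
      ← _root_.commutator_def]
    exact CfsgLib.Classical.commutator_SL_two_eq_top (by rw [ZMod.card]; omega))
  -- the kernel is in the Frattini subgroup
  have hfr : π.ker ≤ frattini X := le_iInf₂ fun M hM => by
    by_contra h
    have hlt : M < M ⊔ π.ker := lt_of_le_of_ne le_sup_left fun e => h (e.symm ▸ le_sup_right)
    have e := hM.2 _ hlt
    have : M.map π = ⊤ := by
      have h2 := congrArg (Subgroup.map π) e
      rw [Subgroup.map_sup, (Subgroup.map_eq_bot_iff π.ker).2 le_rfl, sup_bot_eq, ← MonoidHom.range_eq_map,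
        MonoidHom.range_eq_top.2 hsurj] at h2
      exact h2
    exact hM.1 (hmin M this)
  haveI := frattini_nilpotent (G := X)
  have hnil : Group.IsNilpotent π.ker :=
    Subgroup.isNilpotent_iff_lowerCentralSeries π.ker |>.2 (by
      obtain ⟨n, hn⟩ := (Subgroup.isNilpotent_iff_lowerCentralSeries (frattini X)).1 inferInstance
      exact ⟨n, le_bot_iff.1 (hn ▸ Subgroup.lowerCentralSeries_mono n hfr)⟩)
  -- the central involution
  obtain ⟨z, hz, hπz⟩ : ∃ z ∈ center X, π z = negOne (ZMod p) := by
    obtain ⟨z0, hz0⟩ := hsurj (negOne (ZMod p))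
    obtain ⟨n, hn⟩ := hodd
    have hmem : z0 * z0 ∈ π.ker := by rw [MonoidHom.mem_ker, map_mul, hz0, negOne_sq]
    have hpw : ∀ o ∈ π.ker, o ^ (2 * n + 1) = 1 := fun o ho => by
      have := pow_card_eq_one' (x := (⟨o, ho⟩ : π.ker))
      rw [hn] at this
      exact congrArg Subtype.val this
    obtain ⟨z, hzd⟩ : ∃ z, z = z0 ^ (2 * n + 1) := ⟨_, rfl⟩
    have hzz : z * z = 1 := by
      rw [hzd, ← (Commute.refl z0).mul_pow]; exact hpw _ hmem
    have hπz : π z = negOne (ZMod p) := by
      rw [hzd, map_pow, hz0, pow_succ, pow_mul, pow_two, negOne_sq, one_pow, one_mul]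
    refine ⟨z, ?_, hπz⟩
    have hC : centralizer ({z} : Set X) = ⊤ := hmin _ (by
      rw [eq_top_iff]
      intro g _
      obtain ⟨y, rfl⟩ := hsurj g
      obtain ⟨o, ho⟩ : ∃ o, o = z * (y * z * y⁻¹) := ⟨_, rfl⟩
      have hoO : o ∈ π.ker := by
        rw [MonoidHom.mem_ker, ho, map_mul, map_mul, map_mul, map_inv, hπz, ← (negOne_comm (π y)).eq,
          mul_inv_cancel_right, negOne_sq]
      obtain ⟨s, hs⟩ : ∃ s, s = o ^ (n + 1) := ⟨_, rfl⟩
      have hzi : z⁻¹ = z := inv_eq_of_mul_eq_one_right hzz
      have hzo : z * o * z = o⁻¹ := by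
        have e : (y * z * y⁻¹)⁻¹ = y * z * y⁻¹ := by rw [_root_.mul_inv_rev, _root_.mul_inv_rev, inv_inv, hzi, mul_assoc]
        rw [ho, _root_.mul_inv_rev, e, hzi, ← mul_assoc z z, hzz, one_mul]
      have hzs : z * s * z = s⁻¹ := by
        have h := conj_pow (a := z) (b := o) (i := n + 1)
        rw [hzi, hzo, inv_pow, ← hs] at h
        exact h.symm
      have hss : s * s = o := by
        rw [hs, ← pow_add, show n + 1 + (n + 1) = 2 * n + 1 + 1 by ring, pow_succ, hpw o hoO, one_mul]
      refine ⟨s * y, mem_centralizer_singleton_iff.2 ?_, ?_⟩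
      · have hyz : y * z = z * o * y := by
          rw [ho, ← mul_assoc z z, hzz, one_mul, inv_mul_cancel_right]
        have e : z * s = s⁻¹ * z := by rw [← hzs, mul_assoc, hzz, mul_one]
        have e2 : s * z = z * s⁻¹ := by
          calc s * z = z * (z * s * z) := by rw [← mul_assoc, ← mul_assoc, hzz, one_mul]
            _ = z * s⁻¹ := by rw [hzs]
        calc s * y * z = s * z * o * y := by rw [mul_assoc s y z, hyz]; group
          _ = z * s⁻¹ * (s * s) * y := by rw [e2, hss]
          _ = z * (s * y) := by group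
      · rw [map_mul, MonoidHom.mem_ker.1 (hs ▸ pow_mem hoO _ : s ∈ π.ker), one_mul])
    exact mem_center_iff.2 fun g => mem_centralizer_singleton_iff.1 (hC ▸ mem_top g)
  -- no element of order three in the kernel
  have h3 : ¬ 3 ∣ Nat.card π.ker := by
    intro hd
    obtain ⟨⟨c, hc⟩, hcord⟩ := exists_prime_orderOf_dvd_card' 3 hd
    have hc3 : orderOf c = 3 := by rwa [orderOf_mk] at hcord
    have hcc : c ∈ center X := by
      rw [mem_center_iff]
      have hrel : ∀ g : X, g * c * g⁻¹ ∈ zpowers c := by
        intro g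
        -- conjugates lie in the unique subgroup of order three of the nilpotent kernel
        obtain ⟨Q⟩ : Nonempty (Sylow 3 π.ker) := inferInstance
        haveI := hnil
        have h4 : ∀ (q : ℕ) (_ : Fact q.Prime) (P : Sylow q π.ker), (P : Subgroup π.ker).Normal :=
          ((Group.isNilpotent_of_finite_tfae (G := π.ker)).out 0 3).1 hnil
        haveI hQn : (Q : Subgroup π.ker).Normal := h4 3 inferInstance Q
        have hall : ∀ o : π.ker, o ^ 3 = 1 → o ∈ (Q : Subgroup π.ker) := by
          intro o ho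
          have hP : IsPGroup 3 (zpowers o) := fun ⟨w, hw⟩ => ⟨1, by
            obtain ⟨i, rfl⟩ := mem_zpowers_iff.1 hw
            exact Subtype.ext (show (o ^ i) ^ (3 ^ 1) = 1 by
              rw [← zpow_natCast, ← _root_.zpow_mul, mul_comm, _root_.zpow_mul, pow_one, zpow_natCast, ho,
                _root_.one_zpow])⟩
          obtain ⟨R, hR⟩ := hP.exists_le_sylow
          haveI := Q.unique_of_normal hQn
          exact (Subsingleton.elim R Q) ▸ hR (mem_zpowers o)
        have hcyc : IsCyclic ((Q : Subgroup π.ker).map π.ker.subtype) :=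
          h3p.isCyclic (by norm_num) (Q.2.map π.ker.subtype)
        have hc' : (⟨c, hc⟩ : π.ker) ^ 3 = 1 := Subtype.ext (show c ^ 3 = 1 by rw [← hc3, pow_orderOf_eq_one])
        have hg : (⟨g * c * g⁻¹, (π.normal_ker).conj_mem c hc g⟩ : π.ker) ^ 3 = 1 := Subtype.ext
          (show (g * c * g⁻¹) ^ 3 = 1 by rw [conj_pow, ← hc3, pow_orderOf_eq_one, mul_one, mul_inv_cancel])
        obtain ⟨⟨w, hw⟩, hgen⟩ := hcyc.exists_generator
        obtain ⟨i, hi⟩ := hgen ⟨c, mem_map.2 ⟨_, hall _ hc', rfl⟩⟩
        obtain ⟨j, hj⟩ := hgen ⟨g * c * g⁻¹, mem_map.2 ⟨_, hall _ hg, rfl⟩⟩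
        have hi' : w ^ i = c := congrArg Subtype.val hi
        have hj' : w ^ j = g * c * g⁻¹ := congrArg Subtype.val hj
        by_contra hnot
        obtain ⟨k, hk⟩ := h3p (g * c * g⁻¹) c (by rw [conj_pow, ← hc3, pow_orderOf_eq_one, mul_one, mul_inv_cancel])
          (by rw [← hc3, pow_orderOf_eq_one]) (hj' ▸ hi' ▸ Commute.zpow_zpow_self w j i)
          (fun e => by rw [e, orderOf_one] at hc3; norm_num at hc3)
        exact hnot (hk ▸ pow_mem (mem_zpowers c) k)
      -- the action is by automorphisms of a cyclic group, so trivial on the perfect group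
      have hnorm : (zpowers c).Normal := ⟨fun x hx g => by
        obtain ⟨i, rfl⟩ := mem_zpowers_iff.1 hx
        rw [← conj_zpow]
        exact zpow_mem (hrel g) i⟩
      obtain ⟨f, hf⟩ : ∃ f : X →* MulAut (zpowers c), f = MulAut.conjNormal := ⟨_, rfl⟩
      have hle : commutator X ≤ f.ker := by
        rw [_root_.commutator_def, Subgroup.commutator_le]
        intro a _ b _
        rw [MonoidHom.mem_ker, map_commutatorElement, commutatorElement_eq_one_iff_mul_comm]
        haveI : IsCyclic (zpowers c) := inferInstance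
        obtain ⟨w, hw⟩ := IsCyclic.exists_generator (α := zpowers c)
        refine MulEquiv.ext fun x => ?_
        obtain ⟨i, rfl⟩ := hw x
        obtain ⟨a', ha'⟩ := hw (f a w)
        obtain ⟨b', hb'⟩ := hw (f b w)
        simp only [MulAut.mul_apply, map_zpow]
        congr 1
        rw [← hb', map_zpow, ← ha', map_zpow, ← hb', ← _root_.zpow_mul, ← _root_.zpow_mul, mul_comm]
      intro g
      have h1 : f g = 1 := MonoidHom.mem_ker.1 (hle (hperf ▸ mem_top g))
      have h2 := congrArg (fun φ : MulAut (zpowers c) => (φ ⟨c, mem_zpowers c⟩ : X)) h1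
      simp [hf] at h2
      exact mul_inv_eq_iff_eq_mul.1 h2
    have h1 := central_eq_one hperf hcc fun r _ hr P => by
      rw [hc3] at hr
      have hr3 : r = 3 := (Nat.prime_dvd_prime_iff_eq Fact.out Nat.prime_three).1 hr
      subst hr3
      have := h3p.isCyclic (by norm_num) P.2
      exact IsCyclic.isMulCommutative
    rw [h1, orderOf_one] at hc3
    norm_num at hc3
  have hcen := ker_le_center hp π hsurj hperf hmin hnil hodd h3 hz hπz hstill
  refine (injective_iff_map_eq_one π).2 fun c hc => central_eq_one hperf (hcen (MonoidHom.mem_ker.2 hc)) fun r _ hr P => ?_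
  have hr2 : r ≠ 2 := fun e => by
    subst e
    have h : 2 ∣ Nat.card π.ker := hr.trans (Subgroup.orderOf_dvd_natCard π.ker (MonoidHom.mem_ker.2 hc))
    obtain ⟨k, hk⟩ := hodd
    omega
  have hker : (π.comp (P : Subgroup X).subtype).ker ≤ center (P : Subgroup X) := fun w hw =>
    mem_center_iff.2 fun v => Subtype.ext (mem_center_iff.1 (hcen (show (w : X) ∈ π.ker from hw)) (v : X))
  have hcyc : IsCyclic (π.comp (P : Subgroup X).subtype).range := by
    obtain ⟨R, hR⟩ : ∃ R : Sylow r (SL (ZMod p)), (π.comp (P : Subgroup X).subtype).range ≤ R := by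
      have hP : IsPGroup r (π.comp (P : Subgroup X).subtype).range := by
        rw [MonoidHom.range_comp, Subgroup.range_subtype]
        exact P.2.map π
      exact hP.exists_le_sylow
    haveI := isCyclic_sylow_SL2 hr2 R
    exact isCyclic_of_injective (Subgroup.inclusion hR) (Subgroup.inclusion_injective hR)
  exact ⟨⟨fun a b => (π.comp (P : Subgroup X).subtype).rangeRestrict.isMulCommutative_of_isCyclic_of_ker_le_center
    (by rwa [MonoidHom.ker_rangeRestrict]) |>.is_comm.comm a b⟩⟩

/-- A section `SL(2,p)` with odd kernel gives a subgroup `SL(2,p)`. -/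
theorem exists_injective_SL2 {p : ℕ} [Fact p.Prime] (hp : 7 ≤ p) {H : Type u} [Group H] [Finite H]
    (h3 : NoPair 3 H) (hstill : Still H) (L : Subgroup H) (π : L →* SL (ZMod p)) (hsurj : Function.Surjective π)
    (hodd : Odd (Nat.card π.ker)) : ∃ φ : SL (ZMod p) →* H, Function.Injective φ := by
  classical
  induction hn : Nat.card L using Nat.strong_induction_on generalizing L with
  | _ n ih =>
    by_cases hmin : ∀ M : Subgroup L, M.map π = ⊤ → M = ⊤
    · have hinj := injective_of_minimal hp π hsurj hodd hmin (h3.of_hom L.subtype L.subtype_injective)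
        (hstill.of_hom L.subtype L.subtype_injective)
      exact ⟨L.subtype.comp (MulEquiv.ofBijective π ⟨hinj, hsurj⟩).symm.toMonoidHom,
        L.subtype_injective.comp (MulEquiv.injective _)⟩
    · simp only [not_forall] at hmin
      obtain ⟨M, hM, hMne⟩ := hmin
      let e : M ≃* (M.map L.subtype : Subgroup H) := M.equivMapOfInjective L.subtype L.subtype_injective
      refine ih (Nat.card M) ?_ (M.map L.subtype) ((π.comp M.subtype).comp e.symm.toMonoidHom) ?_ ?_
        (Nat.card_congr e.toEquiv).symm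
      · exact hn ▸ lt_of_le_of_ne (Subgroup.card_le_card_group M) fun h => hMne (Subgroup.eq_top_of_card_eq M h)
      · intro g
        obtain ⟨w, hw, rfl⟩ := Subgroup.mem_map.1 (hM.symm ▸ mem_top g : g ∈ M.map π)
        exact ⟨e ⟨w, hw⟩, by simp⟩
      · refine hodd.of_dvd_nat ?_
        let f : ((π.comp M.subtype).comp e.symm.toMonoidHom).ker →* π.ker :=
          { toFun := fun w => ⟨(e.symm w.1 : L), MonoidHom.mem_ker.1 w.2⟩
            map_one' := Subtype.ext (by simp)
            map_mul' := fun a b => Subtype.ext (show ((e.symm (a.1 * b.1)) : L) = _ by rw [map_mul]; rfl) }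
        refine Subgroup.card_dvd_of_injective f fun a b h => Subtype.ext ?_
        exact e.symm.injective (Subtype.ext (congrArg (fun w : π.ker => (w : L)) h))

end CfsgLib.FixedSpace
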