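import Cfsg.Agent.Lib.FixedSpace.Weights
import Cfsg.Agent.Lib.Known.E8SL2.Rep

/-!
# The weight inequality on the spaces of homogeneous polynomial functions
-/

set_option autoImplicit false
set_option linter.all false

namespace CfsgLib.FixedSpace

open Module Matrix
open CfsgLib.Perm.AltSection (eig mem_eig pow_eig)
open CfsgLib.Known.E8SL2 (uu ww tt negOne uu_add uu_zero uu_inv tt_mul tt_one tt_uu SL Pts move funRep funRep_apply
  idx mon0 mon0_apply Vd mon lin)

variable {p : ℕ} [Fact p.Prime] {K : Type*} [Field K] [CharP K p]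

/-- The representation on the functions. -/
noncomputable abbrev fR (p : ℕ) [Fact p.Prime] (K : Type*) [Field K] :
    Representation K (SL (ZMod p)) (Pts (ZMod p) → K) := funRep

theorem unit_sum {m : ℕ} (hm : p = 2 * m + 1) (hm3 : 3 ≤ m) {j : ℕ} (hj : j ≤ 2 * m) :
    ∑ t : (ZMod p)ˣ, ((t⁻¹ : (ZMod p)ˣ) : ZMod p) * (t : ZMod p) ^ j = if j = 1 then -1 else 0 := by
  have hcard : Fintype.card (ZMod p) - 1 = 2 * m := by rw [ZMod.card]; omega
  rcases j with _ | j
  · have e : ∑ t : (ZMod p)ˣ, ((t⁻¹ : (ZMod p)ˣ) : ZMod p) * (t : ZMod p) ^ 0 =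
        ∑ t : (ZMod p)ˣ, ((t ^ 1 : (ZMod p)ˣ) : ZMod p) :=
      Fintype.sum_equiv (Equiv.inv _) _ _ fun t => by rw [pow_zero, mul_one, pow_one]; rfl
    rw [e]
    simp only [Units.val_pow_eq_pow_val]
    rw [FiniteField.sum_pow_units, hcard, if_neg (by intro hd; have := Nat.le_of_dvd one_pos hd; omega),
      if_neg (by omega)]
  · simp only [pow_succ', ← mul_assoc, Units.inv_mul, one_mul]
    rw [FiniteField.sum_pow_units, hcard]
    rcases j with _ | j
    · rw [if_pos (dvd_zero _), if_pos rfl]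
    · rw [if_neg (by intro hd; have := Nat.le_of_dvd (by omega) hd; omega), if_neg (by omega)]

theorem nop_mon0 {m : ℕ} (hm : p = 2 * m + 1) (hm3 : 3 ≤ m) {d i : ℕ} (hd : d ≤ 2 * m) (hi : i ≤ d) :
    nop (fR p K) (mon0 (cst p K) d i) = (-(i : K)) • mon0 (cst p K) d (i - 1) := by
  classical
  funext x
  have hu : ∀ t : ZMod p, (move (uu t)⁻¹ x).1 0 = x.1 0 + -t * x.1 1 ∧ (move (uu t)⁻¹ x).1 1 = x.1 1 := fun t => by
    rw [uu_inv]; exact CfsgLib.Known.E8SL2.move_uu (-t) x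
  simp only [nop, LinearMap.neg_apply, LinearMap.sum_apply, LinearMap.smul_apply, Pi.neg_apply, Finset.sum_apply,
    Pi.smul_apply, smul_eq_mul, funRep_apply, mon0_apply, hu]
  simp only [← map_pow, ← map_mul, ← map_sum, ← map_natCast (cst p K), ← map_neg]
  congr 1
  obtain ⟨a, ha⟩ : ∃ a, a = x.1 0 := ⟨_, rfl⟩
  obtain ⟨b, hb⟩ : ∃ b, b = x.1 1 := ⟨_, rfl⟩
  rw [← ha, ← hb]
  have key : ∑ t : (ZMod p)ˣ, ((t⁻¹ : (ZMod p)ˣ) : ZMod p) * (a + -(t : ZMod p) * b) ^ i =
      (i : ZMod p) * (a ^ (i - 1) * b) := by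
    simp only [add_pow, Finset.mul_sum]
    rw [Finset.sum_comm]
    rcases Nat.eq_zero_or_pos i with rfl | hi0
    · rw [Finset.sum_range_one, Nat.cast_zero, zero_mul]
      have h := unit_sum hm hm3 (j := 0) (by omega)
      rw [if_neg (by omega)] at h
      simpa only [pow_zero, mul_one, one_mul, Nat.sub_zero, Nat.choose_self, Nat.cast_one] using h
    rw [Finset.sum_eq_single (i - 1)]
    · have h := unit_sum hm hm3 (j := 1) (by omega)
      rw [if_pos rfl] at h
      rw [Nat.choose_symm (n := i) (k := 1) hi0, Nat.choose_one_right, show i - (i - 1) = 1 by omega]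
      calc ∑ t : (ZMod p)ˣ, ((t⁻¹ : (ZMod p)ˣ) : ZMod p) * (a ^ (i - 1) * (-(t : ZMod p) * b) ^ 1 * (i : ZMod p))
          = (∑ t : (ZMod p)ˣ, ((t⁻¹ : (ZMod p)ˣ) : ZMod p) * (t : ZMod p) ^ 1) * (-((i : ZMod p) * (a ^ (i - 1) * b))) := by
            rw [Finset.sum_mul]; exact Finset.sum_congr rfl fun t _ => by ring
        _ = (i : ZMod p) * (a ^ (i - 1) * b) := by rw [h]; ring
    · intro k hk hne
      have hk' := Finset.mem_range.1 hk
      have h := unit_sum hm hm3 (j := i - k) (by omega)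
      rw [if_neg (by omega)] at h
      calc ∑ t : (ZMod p)ˣ, ((t⁻¹ : (ZMod p)ˣ) : ZMod p) * (a ^ k * (-(t : ZMod p) * b) ^ (i - k) * (i.choose k : ZMod p))
          = (∑ t : (ZMod p)ˣ, ((t⁻¹ : (ZMod p)ˣ) : ZMod p) * (t : ZMod p) ^ (i - k)) *
              (a ^ k * (-b) ^ (i - k) * (i.choose k : ZMod p)) := by
            rw [Finset.sum_mul]
            refine Finset.sum_congr rfl fun t _ => ?_
            rw [neg_mul, ← mul_neg, mul_pow]
            ring
        _ = 0 := by rw [h, zero_mul]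
    · intro h; exact absurd (Finset.mem_range.2 (by omega)) h
  rcases Nat.eq_zero_or_pos i with rfl | hi0
  · have h := unit_sum hm hm3 (j := 0) (by omega)
    rw [if_neg (by omega)] at h
    simp only [pow_zero, mul_one] at h
    simp only [pow_zero, one_mul, ← Finset.sum_mul, h, zero_mul, neg_zero, Nat.cast_zero]
  calc -∑ t : (ZMod p)ˣ, ((t⁻¹ : (ZMod p)ˣ) : ZMod p) * ((a + -(t : ZMod p) * b) ^ i * b ^ (d - i))
      = -((∑ t : (ZMod p)ˣ, ((t⁻¹ : (ZMod p)ˣ) : ZMod p) * (a + -(t : ZMod p) * b) ^ i) * b ^ (d - i)) := by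
        rw [Finset.sum_mul]; congr 1; exact Finset.sum_congr rfl fun t _ => by ring
    _ = -(i : ZMod p) * (a ^ (i - 1) * b ^ (d - (i - 1))) := by
        rw [key, show d - (i - 1) = d - i + 1 by omega, pow_succ]; ring

theorem nop_pow_mon0 {m : ℕ} (hm : p = 2 * m + 1) (hm3 : 3 ≤ m) {d : ℕ} (hd : d ≤ 2 * m) (j : ℕ) {i : ℕ}
    (hi : i ≤ d) : ∃ c : K, (nop (fR p K) ^ j) (mon0 (cst p K) d i) = c • mon0 (cst p K) d (i - j) ∧
      (c = 0 ↔ i < j) := by
  induction j with
  | zero => exact ⟨1, by simp, by simp⟩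
  | succ j ih =>
    obtain ⟨c, hc, hc0⟩ := ih
    refine ⟨c * -((i - j : ℕ) : K), ?_, ?_⟩
    · rw [pow_succ', End.mul_apply, hc, map_smul, nop_mon0 hm hm3 hd (by omega), smul_smul, Nat.sub_sub]
    · rw [mul_eq_zero, neg_eq_zero, CharP.cast_eq_zero_iff K p, hc0]
      constructor
      · rintro (h | h)
        · omega
        · by_contra hlt
          have := Nat.le_of_dvd (by omega) h
          omega
      · intro h
        by_cases hij : i < j
        · exact Or.inl hij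
        · exact Or.inr (by rw [show i - j = 0 by omega]; exact dvd_zero p)

theorem mon0_mem_wt {r : (ZMod p)ˣ} {d i : ℕ} (hi : i ≤ d) :
    mon0 (cst p K) d i ∈ wt (fR p K) r (2 * (i : ℤ) - d) := by
  classical
  refine mem_eig.2 (funext fun x => ?_)
  have h0 : cst p K (r : ZMod p) ≠ 0 := by simp
  have e : (tt r)⁻¹ = tt r⁻¹ := inv_eq_of_mul_eq_one_right (by rw [← tt_mul, mul_inv_cancel, tt_one])
  rw [Pi.smul_apply, smul_eq_mul, funRep_apply, e, mon0_apply, mon0_apply,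
    show -(2 * (i : ℤ) - d) = ((d - i : ℕ) : ℤ) - (i : ℤ) by omega, zpow_sub₀ h0, zpow_natCast, zpow_natCast]
  have e0 : (move (tt r⁻¹) x).1 0 = ((r⁻¹ : (ZMod p)ˣ) : ZMod p) * x.1 0 := by
    show (!![((r⁻¹ : (ZMod p)ˣ) : ZMod p), 0; 0, ((r⁻¹⁻¹ : (ZMod p)ˣ) : ZMod p)] *ᵥ x.1) 0 = _
    rw [inv_inv]
    simp only [Matrix.mulVec, dotProduct, Fin.sum_univ_two, Matrix.of_apply, Matrix.cons_val_zero,
      Matrix.cons_val_one, zero_mul, add_zero]
  have e1 : (move (tt r⁻¹) x).1 1 = (r : ZMod p) * x.1 1 := by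
    show (!![((r⁻¹ : (ZMod p)ˣ) : ZMod p), 0; 0, ((r⁻¹⁻¹ : (ZMod p)ˣ) : ZMod p)] *ᵥ x.1) 1 = _
    rw [inv_inv]
    simp only [Matrix.mulVec, dotProduct, Fin.sum_univ_two, Matrix.of_apply, Matrix.cons_val_zero,
      Matrix.cons_val_one, zero_mul, zero_add]
  rw [e0, e1, map_mul, map_mul, Units.val_inv_eq_inv_val, map_inv₀, mul_pow, mul_pow, inv_pow]
  field_simp

theorem idx_eq {m : ℕ} (hm : p = 2 * m + 1) {d : ℕ} (hd : d ≤ 2 * m) [DecidableEq K] :
    idx K d = Finset.range (d + 1) := by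
  refine Finset.filter_true_of_mem fun i hi => ?_
  rw [Ne, CharP.cast_eq_zero_iff K p]
  intro h
  have hle := Nat.lt_succ_iff.1 (Finset.mem_range.1 hi)
  have hp : p.Prime := Fact.out
  exact absurd (hp.dvd_factorial.1 (h.trans ⟨_, (by rw [← mul_assoc]; exact
    (Nat.choose_mul_factorial_mul_factorial hle).symm)⟩)) (by omega)

theorem Vd_eq_span {m : ℕ} (hm : p = 2 * m + 1) {d : ℕ} (hd : d ≤ 2 * m) :
    Vd (cst p K) d = Submodule.span K (Set.range fun i : Fin (d + 1) => mon0 (cst p K) d i) := by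
  classical
  have hd' : d ≤ Fintype.card (ZMod p) - 1 := by rw [ZMod.card]; omega
  refine le_antisymm ?_ (Submodule.span_le.2 ?_)
  · refine (CfsgLib.Known.E8SL2.Vd_le_span (cst p K) (w := ![1, 0]) (z := ![0, 1]) (α := 0) (β := 0)
      (fun c => ⟨c 0, c 1, funext fun k => by fin_cases k <;> simp⟩) d).trans (Submodule.span_mono ?_)
    rintro _ ⟨⟨i, hi⟩, rfl⟩
    rw [idx_eq hm hd, Finset.mem_range] at hi
    exact ⟨⟨i, hi⟩, rfl⟩
  · rintro _ ⟨i, rfl⟩
    exact CfsgLib.Known.E8SL2.mon0_mem_Vd (cst p K) hd' (by rw [idx_eq hm hd, Finset.mem_range]; exact i.2)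

theorem linearIndependent_mon {m : ℕ} (hm : p = 2 * m + 1) {d : ℕ} (hd : d ≤ 2 * m) :
    LinearIndependent K fun i : Fin (d + 1) => mon0 (cst p K) d i := by
  classical
  have hd' : d ≤ Fintype.card (ZMod p) - 1 := by rw [ZMod.card]; omega
  exact (CfsgLib.Known.E8SL2.linearIndependent_mon0 (cst p K) hd').comp
    (fun i : Fin (d + 1) => ⟨(i : ℕ), by rw [idx_eq hm hd, Finset.mem_range]; exact i.2⟩)
    fun a b h => Fin.ext (congrArg (fun z : idx K d => (z : ℕ)) h)

/-- The representation on the polynomial functions. -/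
noncomputable def vdRep (p : ℕ) [Fact p.Prime] (K : Type*) [Field K] [CharP K p] (d : ℕ) :
    Representation K (SL (ZMod p)) ↥(Vd (cst p K) d) where
  toFun g := (fR p K g).restrict fun _ hv => CfsgLib.Known.E8SL2.funRep_mem_Vd (cst p K) hv g
  map_one' := LinearMap.ext fun v => Subtype.ext (by simp)
  map_mul' g h := LinearMap.ext fun v => Subtype.ext (by simp)

theorem coe_vdRep (d : ℕ) (g : SL (ZMod p)) (v : ↥(Vd (cst p K) d)) :
    (Vd (cst p K) d).subtype (vdRep p K d g v) = fR p K g ((Vd (cst p K) d).subtype v) := rfl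

/-- The inequality on the model. -/
theorem ineq_vdRep {m : ℕ} (hm : p = 2 * m + 1) (hm3 : 3 ≤ m) {r : (ZMod p)ˣ} (hr : orderOf r = 2 * m)
    {d : ℕ} (hd : d ≤ 2 * m) {ω : K} (hω : IsPrimitiveRoot ω 3) : Ineq (vdRep p K d) r m := by
  classical
  obtain ⟨b, hb⟩ : ∃ b : Fin (d + 1) → (Pts (ZMod p) → K), b = fun i : Fin (d + 1) => mon0 (cst p K) d (i : ℕ) := ⟨_, rfl⟩
  have hV : Vd (cst p K) d = Submodule.span K (Set.range b) := hb ▸ Vd_eq_span hm hd
  have hli : LinearIndependent K b := hb ▸ linearIndependent_mon hm hd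
  have hdim : finrank K ↥(Vd (cst p K) d) = d + 1 := by
    rw [hV, finrank_span_eq_card hli, Fintype.card_fin]
  have hd' : d ≤ Fintype.card (ZMod p) - 1 := by rw [ZMod.card]; omega
  -- the fixed space of the element of order three
  obtain ⟨f, hf⟩ : ∃ f, f = finrank K ↥(eig (vdRep p K d (g3 1)) 1) := ⟨_, rfl⟩
  have hmapeig : ∀ g c, (eig (vdRep p K d g) c).map (Vd (cst p K) d).subtype = Vd (cst p K) d ⊓ eig (fR p K g) c := by
    intro g c
    rw [← Submodule.map_comap_subtype]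
    congr 1
    ext v
    rw [Submodule.mem_comap, mem_eig, mem_eig, ← coe_vdRep, ← map_smul,
      (Submodule.subtype_injective _).eq_iff]
  have hω2 : 1 + ω + ω ^ 2 = 0 := by
    have h := hω.geom_sum_eq_zero (by norm_num)
    simpa [Finset.sum_range_succ] using h
  have hωi : ω⁻¹ = ω ^ 2 := inv_eq_of_mul_eq_one_right (by rw [← pow_succ', hω.pow_eq_one])
  have hlin : ∀ (c : K) (x : Pts (ZMod p)), lin (cst p K) ![1, c] (move (g3 1)⁻¹ x) =
      (c - 1) * cst p K (x.1 0) - cst p K (x.1 1) := by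
    intro c x
    have hg : ((g3 (1 : (ZMod p)ˣ))⁻¹).1 = !![-1, -1; 1, 0] := by
      rw [g3_inv]
      show !![0, ((1 : (ZMod p)ˣ) : ZMod p); -(((1 : (ZMod p)ˣ)⁻¹ : (ZMod p)ˣ) : ZMod p), -1] *
        !![0, ((1 : (ZMod p)ˣ) : ZMod p); -(((1 : (ZMod p)ˣ)⁻¹ : (ZMod p)ˣ) : ZMod p), -1] = _
      simp
    simp [lin, move, hg, Matrix.vecHead, Matrix.vecTail]
    ring
  have hfc : f = ((idx K d).filter fun i => ω ^ i * ω⁻¹ ^ (d - i) = 1).card := by
    rw [hf, ← CfsgLib.Known.E8SL2.finrank_Vd_eig (cst p K) hd' (g3 1) (w := ![1, -ω ^ 2]) (z := ![1, -ω])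
      ?_ ?_ ?_, ← hmapeig, Submodule.finrank_map_subtype_eq]
    · intro c
      have hne : ω - ω ^ 2 ≠ 0 := sub_ne_zero.2 fun e => by
        have := hω.pow_inj (i := 1) (j := 2) (by norm_num) (by norm_num) (by rw [← e, pow_one])
        omega
      obtain ⟨α, hα⟩ : ∃ α, α * (ω - ω ^ 2) = c 1 + ω * c 0 :=
        ⟨(c 1 + ω * c 0) / (ω - ω ^ 2), div_mul_cancel₀ _ hne⟩
      refine ⟨α, c 0 - α, funext fun k => ?_⟩
      fin_cases k
      · simp
      · simp
        linear_combination -hα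
    · intro x
      rw [hlin]
      simp [lin]
      linear_combination (-cst p K (x.1 0)) * hω2 + cst p K (x.1 1) * hω.pow_eq_one
    · intro x
      rw [hlin, hωi]
      simp [lin]
      linear_combination (-cst p K (x.1 0)) * hω2 + cst p K (x.1 1) * hω.pow_eq_one
  have hcond : ∀ i, i ≤ d → 3 ∣ i + 2 * (d - i) → ω ^ i * ω⁻¹ ^ (d - i) = 1 := fun i hi h => by
    rw [hωi, ← pow_mul, ← pow_add, hω.pow_eq_one_iff_dvd]
    exact h
  have hf3 : (d + 1) / 3 ≤ f := by
    rw [hfc]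
    refine le_trans (by rw [Finset.card_range]) (Finset.card_le_card_of_injOn (fun k => 3 * k + 2 * d % 3) ?_ ?_
      (s := Finset.range ((d + 1) / 3)))
    · intro k hk
      simp only [Finset.coe_range, Set.mem_Iio] at hk
      simp only [Finset.coe_filter, Set.mem_setOf_eq, idx_eq hm hd, Finset.mem_range]
      exact ⟨by omega, hcond _ (by omega) (by omega)⟩
    · intro a _ c _ h; simpa using h
  have hf0 : d = 0 → 1 ≤ f := fun h0 => by
    rw [hfc]
    exact Finset.card_pos.2 ⟨0, Finset.mem_filter.2 ⟨by rw [idx_eq hm hd]; simp, hcond 0 (Nat.zero_le _) (by simp [h0])⟩⟩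
  -- the lower bound on ranks
  have hrk : ∀ (i : ℕ), 1 ≤ i → i ≤ d → 1 ≤ rk (vdRep p K d) r (2 * (i : ℤ) - d) := by
    intro i hi1 hid
    obtain ⟨v, hv⟩ : ∃ v : ↥(Vd (cst p K) d), (Vd (cst p K) d).subtype v = mon0 (cst p K) d i :=
      ⟨⟨_, hV ▸ Submodule.subset_span ⟨⟨i, by omega⟩, congrFun hb _⟩⟩, rfl⟩
    have hvw : v ∈ wt (vdRep p K d) r (2 * (i : ℤ) - d) := by
      have h := mem_eig.1 (mon0_mem_wt (K := K) (r := r) hid)
      rw [← hv, ← coe_vdRep, ← map_smul] at h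
      exact mem_eig.2 (Submodule.subtype_injective _ h)
    refine Nat.one_le_iff_ne_zero.2 fun h0 => ?_
    rw [rk, Submodule.finrank_eq_zero] at h0
    have h1 : nop (vdRep p K d) v = 0 := (Submodule.mem_bot K).1 (h0 ▸ Submodule.mem_map_of_mem hvw)
    have h2 := map_nop (τ := fR p K) (coe_vdRep d) v
    rw [h1, map_zero, hv, nop_mon0 hm hm3 hd hid] at h2
    rcases smul_eq_zero.1 h2.symm with h | h
    · rw [neg_eq_zero, CharP.cast_eq_zero_iff K p] at h
      have := Nat.le_of_dvd (by omega) h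
      omega
    · exact hli.ne_zero (⟨i - 1, by omega⟩ : Fin (d + 1)) (by rw [hb]; exact h)
  -- the kernel
  obtain ⟨S, hS⟩ : ∃ S, S = Finset.univ.filter fun i : Fin (d + 1) => (i : ℕ) < m := ⟨_, rfl⟩
  have hk3 : kp (vdRep p K d) r m 3 ≤
      (S.filter fun i : Fin (d + 1) => cst p K (r : ZMod p) ^ (-(2 * ((i : ℕ) : ℤ) - d)) =
        cst p K (r : ZMod p) ^ (-(3 : ℤ))).card := by
    have hbS : LinearIndependent K fun i : S => b i := hli.comp _ Subtype.val_injective
    have h := CfsgLib.Known.E8SL2.finrank_span_inf_eig hbS (fR p K (tt r))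
      (fun i : S => cst p K (r : ZMod p) ^ (-(2 * (((i : Fin (d + 1)) : ℕ) : ℤ) - d))) (fun i => by
        rw [hb]; exact mem_eig.1 (mon0_mem_wt (Nat.lt_succ_iff.1 i.1.2))) (cst p K (r : ZMod p) ^ (-(3 : ℤ)))
    rw [kp, ← Submodule.finrank_map_subtype_eq (Vd (cst p K) d)]
    refine (Submodule.finrank_mono ?_).trans (h.trans_le ?_)
    · rintro _ ⟨v, ⟨hv1, hv2⟩, rfl⟩
      refine ⟨?_, map_eig (coe_vdRep d) hv1⟩
      have h2 := congrArg (Vd (cst p K) d).subtype (LinearMap.mem_ker.1 hv2)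
      rw [map_nop_pow (τ := fR p K) (coe_vdRep d), map_zero] at h2
      have hvV : (v : Pts (ZMod p) → K) ∈ Submodule.span K (Set.range b) := by rw [← hV]; exact v.2
      obtain ⟨c, hc⟩ := (Submodule.mem_span_range_iff_exists_fun K).1 hvV
      choose κ hκ hκ0 using fun i : Fin (d + 1) =>
        nop_pow_mon0 (K := K) hm hm3 hd m (Nat.lt_succ_iff.1 i.2)
      rw [Submodule.subtype_apply, ← hc, map_sum] at h2
      simp only [map_smul, hb, hκ, smul_smul] at h2
      show (v : Pts (ZMod p) → K) ∈ _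
      rw [← hc]
      refine Submodule.sum_mem _ fun i _ => ?_
      by_cases him : (i : ℕ) < m
      · exact Submodule.smul_mem _ _ (Submodule.subset_span ⟨⟨i, hS ▸ Finset.mem_filter.2 ⟨Finset.mem_univ _, him⟩⟩, rfl⟩)
      · have hci : c i = 0 := by
          have hT := Finset.sum_filter_add_sum_filter_not (Finset.univ : Finset (Fin (d + 1)))
            (fun i : Fin (d + 1) => m ≤ (i : ℕ)) (fun i => (c i * κ i) • mon0 (cst p K) d ((i : ℕ) - m))
          rw [h2, Finset.sum_eq_zero (s := Finset.univ.filter fun i : Fin (d + 1) => ¬ m ≤ (i : ℕ)) (fun j hj => by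
            rw [(hκ0 j).2 (by have := (Finset.mem_filter.1 hj).2; omega), mul_zero, zero_smul]), add_zero,
            ← Finset.sum_coe_sort] at hT
          have hli' : LinearIndependent K fun j : (Finset.univ.filter fun i : Fin (d + 1) => m ≤ (i : ℕ)) =>
              mon0 (cst p K) d ((j : Fin (d + 1)) - m : ℕ) :=
            (linearIndependent_mon (K := K) hm hd).comp
              (fun j : ↥(Finset.univ.filter fun i : Fin (d + 1) => m ≤ (i : ℕ)) =>
                (⟨((j : Fin (d + 1)) : ℕ) - m, lt_of_le_of_lt (Nat.sub_le _ _) j.1.2⟩ : Fin (d + 1))) fun a c e => by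
                have ha := (Finset.mem_filter.1 a.2).2
                have hc := (Finset.mem_filter.1 c.2).2
                have e' := congrArg Fin.val e
                simp only at e'
                exact Subtype.ext (Fin.ext (by omega))
          have := Fintype.linearIndependent_iff.1 hli' _ hT
            ⟨i, Finset.mem_filter.2 ⟨Finset.mem_univ _, by omega⟩⟩
          exact (mul_eq_zero.1 this).resolve_right fun e => him ((hκ0 i).1 e)
        rw [hci, zero_smul]
        exact zero_mem _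
    · refine Finset.card_le_card_of_injOn (fun i : S => (i : Fin (d + 1))) ?_ fun a _ c _ e => Subtype.ext e
      intro i hi
      simp only [Finset.coe_filter, Finset.mem_univ, true_and, Set.mem_setOf_eq] at hi
      simp only [Finset.coe_filter, Set.mem_setOf_eq]
      exact ⟨i.2, hi⟩
  have hprim : IsPrimitiveRoot (cst p K (r : ZMod p)) (2 * m) := cst_pow_inj hr
  have hmem : ∀ i : Fin (d + 1), i ∈ (S.filter fun i : Fin (d + 1) =>
      cst p K (r : ZMod p) ^ (-(2 * ((i : ℕ) : ℤ) - d)) = cst p K (r : ZMod p) ^ (-(3 : ℤ))) →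
      (i : ℕ) < m ∧ ((2 * m : ℕ) : ℤ) ∣ 2 * ((i : ℕ) : ℤ) - d - 3 := by
    intro i hi
    rw [Finset.mem_filter, hS, Finset.mem_filter] at hi
    refine ⟨hi.1.2, (hprim.zpow_eq_one_iff_dvd _).1 ?_⟩
    rw [show 2 * ((i : ℕ) : ℤ) - d - 3 = -(3 : ℤ) - -(2 * ((i : ℕ) : ℤ) - d) by ring, zpow_sub₀ (by simp), hi.2,
      div_self (zpow_ne_zero _ (by simp))]
  obtain ⟨k3, hk3'⟩ : ∃ k3, k3 = kp (vdRep p K d) r m 3 := ⟨_, rfl⟩
  have hk1 : k3 ≤ 1 := by
    refine hk3' ▸ hk3.trans (Finset.card_le_one.2 fun a ha c hc => ?_)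
    obtain ⟨ha1, ha2⟩ := hmem a ha
    obtain ⟨hc1, hc2⟩ := hmem c hc
    obtain ⟨e, he⟩ := dvd_sub ha2 hc2
    rw [Fin.ext_iff]
    have hac : ((a : ℕ) : ℤ) - (c : ℕ) = (m : ℤ) * e := by push_cast at he; linarith
    rcases lt_trichotomy e 0 with h | h | h
    · have : (m : ℤ) * e ≤ -(m : ℤ) := by nlinarith
      omega
    · rw [h, mul_zero] at hac; omega
    · have : (m : ℤ) ≤ (m : ℤ) * e := by nlinarith
      omega
  have hk0 : d % 2 = 0 ∨ d = 1 → k3 = 0 := by
    intro hcase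
    refine Nat.eq_zero_of_le_zero (hk3' ▸ hk3.trans (le_of_eq ?_))
    rw [Finset.card_eq_zero, Finset.eq_empty_iff_forall_notMem]
    intro i hi
    obtain ⟨him, ⟨e, he⟩⟩ := hmem i hi
    push_cast at he
    rcases hcase with h | h
    · obtain ⟨d2, rfl⟩ : ∃ d2, d = 2 * d2 := ⟨d / 2, by omega⟩
      push_cast at he
      have h1 : (2 : ℤ) * (((i : ℕ) : ℤ) - d2 - (m : ℤ) * e) = 3 := by linarith
      omega
    · subst h
      have hi2 := i.2
      have h1 : ((i : ℕ) : ℤ) - 2 = (m : ℤ) * e := by push_cast at he; linarith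
      rcases lt_trichotomy e 0 with h | h | h
      · have : (m : ℤ) * e ≤ -(m : ℤ) := by nlinarith
        omega
      · rw [h, mul_zero] at h1; omega
      · have : (m : ℤ) ≤ (m : ℤ) * e := by nlinarith
        omega
  have hr2 : d = 4 → 1 ≤ rk (vdRep p K d) r 2 := fun h4 => by
    have h := hrk 3 (by norm_num) (by omega)
    rwa [show 2 * ((3 : ℕ) : ℤ) - d = 2 by rw [h4]; norm_num] at h
  have hr1 : d % 2 = 1 → 1 ≤ rk (vdRep p K d) r 1 := fun h => by
    have h' := hrk ((d + 1) / 2) (by omega) (by omega)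
    rwa [show 2 * (((d + 1) / 2 : ℕ) : ℤ) - d = 1 by omega] at h'
  unfold Ineq
  rw [hdim, ← hf, ← hk3']
  omega

end CfsgLib.FixedSpace
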