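import Cfsg.Agent.Lib.FixedSpace.Relation
import Cfsg.Agent.Lib.Classical.PSLTwoSimple

/-!
# A quaternion group of `SL(2,p)` permuted by an element of order three; normal subgroups
-/

set_option autoImplicit false
set_option linter.all false

namespace CfsgLib.FixedSpace

open Matrix
open scoped commutatorElement
open CfsgLib.Known.E8SL2 (uu ww tt negOne SL)

variable {p : ℕ} [Fact p.Prime]

/-- Elements behaving as `i`, `x` with `x i x⁻¹ = j`, `x j x⁻¹ = ± i j`. -/
theorem exists_quat (hp : 5 ≤ p) :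
    ∃ q x : SL (ZMod p), x ^ 3 = 1 ∧ q * q = negOne (ZMod p) ∧ q ∉ Subgroup.center (SL (ZMod p)) ∧
      q * (x * q * x⁻¹) = negOne (ZMod p) * ((x * q * x⁻¹) * q) ∧
      x * (x * q * x⁻¹) * x⁻¹ = q * (x * q * x⁻¹) := by
  obtain ⟨a, b, hab⟩ := ZMod.sq_add_sq p (-1)
  obtain ⟨s, hs⟩ : ∃ s : ZMod p, 2 * s = 1 := ⟨2⁻¹, mul_inv_cancel₀ fun e => by
    have h := (ZMod.natCast_eq_zero_iff 2 p).1 (by exact_mod_cast e)
    have := Nat.le_of_dvd (by norm_num) h
    omega⟩
  obtain ⟨i, hi⟩ : ∃ i : SL (ZMod p), i.1 = !![0, -1; 1, 0] := ⟨⟨_, by simp [Matrix.det_fin_two_of]⟩, rfl⟩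
  obtain ⟨j, hj⟩ : ∃ j : SL (ZMod p), j.1 = !![a, b; b, -a] :=
    ⟨⟨_, by rw [Matrix.det_fin_two_of]; linear_combination -hab⟩, rfl⟩
  obtain ⟨h, hh⟩ : ∃ h : SL (ZMod p), h.1 = !![-(s * (1 + a - b)), -(s * (-1 + a + b)); -(s * (1 + a + b)),
      -(s * (1 - a + b))] := ⟨⟨_, by
        rw [Matrix.det_fin_two_of]
        linear_combination (-2 * s * s) * hab + (2 * s + 1) * hs⟩, rfl⟩
  have h_i : h * i = j * h := Subtype.ext (by
    rw [Matrix.SpecialLinearGroup.coe_mul, Matrix.SpecialLinearGroup.coe_mul, hh, hi, hj, Matrix.mul_fin_two,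
      Matrix.mul_fin_two]
    ext u v
    fin_cases u <;> fin_cases v
    · simp; linear_combination s * hab
    · simp; linear_combination s * hab
    · simp; linear_combination (-s) * hab
    · simp; linear_combination s * hab)
  have h_j : h * j = i * j * h := Subtype.ext (by
    simp only [Matrix.SpecialLinearGroup.coe_mul]
    rw [hh, hi, hj, Matrix.mul_fin_two, Matrix.mul_fin_two, Matrix.mul_fin_two]
    ext u v
    fin_cases u <;> fin_cases v <;> simp <;> ring)
  have hc : h * i * h⁻¹ = j := by rw [h_i, mul_inv_cancel_right]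
  have hsq : (h * h).1 = -h.1 - 1 := by
    rw [Matrix.SpecialLinearGroup.coe_mul, hh, Matrix.mul_fin_two, Matrix.one_fin_two]
    ext u v
    fin_cases u <;> fin_cases v
    · simp; linear_combination (2 * s * s) * hab + (s * (a - b) - s - 1) * hs
    · simp; linear_combination (s * (-1 + a + b)) * hs
    · simp; linear_combination (s * (1 + a + b)) * hs
    · simp; linear_combination (2 * s * s) * hab + (-(s * (a - b)) - s - 1) * hs
  refine ⟨i, h, ?_, ?_, ?_, ?_, ?_⟩
  · refine Subtype.ext ?_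
    rw [pow_succ, pow_two, Matrix.SpecialLinearGroup.coe_mul, hsq, sub_mul, neg_mul, one_mul,
      ← Matrix.SpecialLinearGroup.coe_mul, hsq, Matrix.SpecialLinearGroup.coe_one]
    abel
  · refine Subtype.ext ?_
    rw [Matrix.SpecialLinearGroup.coe_mul, hi]
    show _ = !![(-1 : ZMod p), 0; 0, -1]
    simp
  · intro hcen
    have e := congrArg Subtype.val (Subgroup.mem_center_iff.1 hcen (uu 1))
    rw [Matrix.SpecialLinearGroup.coe_mul, Matrix.SpecialLinearGroup.coe_mul, hi] at e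
    change !![(1 : ZMod p), 1; 0, 1] * !![0, -1; 1, 0] = !![0, -1; 1, 0] * !![(1 : ZMod p), 1; 0, 1] at e
    have e00 := congrFun (congrFun e 0) 0
    simp at e00
  · rw [hc]
    refine Subtype.ext ?_
    simp only [Matrix.SpecialLinearGroup.coe_mul, hi, hj]
    show _ = !![(-1 : ZMod p), 0; 0, -1] * _
    simp
  · rw [hc, h_j, mul_inv_cancel_right]

/-- Proper normal subgroups are central. -/
theorem normal_le_center (hp : 5 ≤ p) (N : Subgroup (SL (ZMod p))) [N.Normal] (hN : N ≠ ⊤) :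
    N ≤ Subgroup.center (SL (ZMod p)) := by
  have hF : 4 ≤ Fintype.card (ZMod p) := by rw [ZMod.card]; omega
  haveI : IsSimpleGroup (SL (ZMod p) ⧸ Subgroup.center (SL (ZMod p))) :=
    CfsgLib.Classical.isSimpleGroup_PSL_two hF
  obtain ⟨π, hπ⟩ : ∃ π : SL (ZMod p) →* SL (ZMod p) ⧸ Subgroup.center (SL (ZMod p)),
      π = QuotientGroup.mk' _ := ⟨_, rfl⟩
  have hn : (N.map π).Normal := Subgroup.Normal.map inferInstance π (hπ ▸ QuotientGroup.mk'_surjective _)
  rcases hn.eq_bot_or_eq_top with h | h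
  · rwa [Subgroup.map_eq_bot_iff, hπ, QuotientGroup.ker_mk'] at h
  · refine absurd (top_le_iff.1 ?_) hN
    rw [← CfsgLib.Classical.commutator_SL_two_eq_top (F := ZMod p) hF, _root_.commutator_def, Subgroup.commutator_le]
    intro u _ v _
    obtain ⟨n, hn, en⟩ := Subgroup.mem_map.1 (h.symm ▸ Subgroup.mem_top (π u) : π u ∈ N.map π)
    have hcu : n⁻¹ * u ∈ Subgroup.center (SL (ZMod p)) := by
      rw [hπ] at en
      exact QuotientGroup.eq.1 en
    have e : ⁅u, v⁆ = ⁅n, v⁆ := by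
      obtain ⟨c, hc, rfl⟩ : ∃ c, c ∈ Subgroup.center (SL (ZMod p)) ∧ u = n * c := ⟨_, hcu, by group⟩
      have hcv : c * v * c⁻¹ = v := by rw [← Subgroup.mem_center_iff.1 hc v, mul_inv_cancel_right]
      rw [commutatorElement_def, commutatorElement_def]
      calc n * c * v * (n * c)⁻¹ * v⁻¹ = n * (c * v * c⁻¹) * n⁻¹ * v⁻¹ := by group
        _ = n * v * n⁻¹ * v⁻¹ := by rw [hcv]
    rw [e, commutatorElement_def, mul_assoc n, mul_assoc n]
    exact N.mul_mem hn (Subgroup.Normal.conj_mem inferInstance _ (N.inv_mem hn) v)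

end CfsgLib.FixedSpace
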