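import Cfsg.Agent.Lib.FixedSpace.Defining
import Cfsg.Agent.Lib.FixedSpace.Lift
import Cfsg.Agent.Lib.FixedSpace.BaseChange
import Cfsg.Agent.Lib.GW.Deps.RankOne
import Cfsg.Agent.Lib.GW.Final
import Cfsg.Agent.Lib.HallNumber.Small
import Cfsg.Agent.Lib.ClassSizes.AlternatingAut
import Cfsg.Agent.Lib.Classical.SmallIsoSix
import Cfsg.Agent.Lib.Classical.LinearOrder

/-!
# Groups with a large radical quotient: reduction to `SL(2,p)`
-/

set_option autoImplicit false
set_option linter.all false

namespace CfsgLib.FixedSpace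

open Module Subgroup
open CfsgLib.Known.E8SL2 (uu SL)
open scoped MatrixGroups

universe u v w

theorem NoPair.quotient {r : ℕ} [Fact r.Prime] (hr : r ≠ 2) {X Y : Type*} [Group X] [Finite X] [Group Y] [Finite Y]
    (h : NoPair r X) (f : X →* Y) (hf : Function.Surjective f) : NoPair r Y := by
  classical
  intro a b ha hb hab hb1
  have hr' : r.Prime := Fact.out
  have hcard : ∀ c : Y, c ^ r = 1 → IsPGroup r (zpowers c) := fun c hc g => ⟨1, by
    obtain ⟨g, hg⟩ := g
    obtain ⟨i, rfl⟩ := mem_zpowers_iff.1 hg
    exact Subtype.ext (show (c ^ i) ^ (r ^ 1) = 1 by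
      rw [pow_one, ← zpow_natCast, ← _root_.zpow_mul, mul_comm, _root_.zpow_mul, zpow_natCast, hc,
        _root_.one_zpow])⟩
  obtain ⟨Φ, hΦ⟩ : ∃ Φ : zpowers a × zpowers b →* Y, ∀ w, Φ w = (w.1 : Y) * (w.2 : Y) :=
    ⟨MonoidHom.noncommCoprod (zpowers a).subtype (zpowers b).subtype (fun x y => by
      obtain ⟨i, hi⟩ := mem_zpowers_iff.1 x.2
      obtain ⟨j, hj⟩ := mem_zpowers_iff.1 y.2
      show Commute (x : Y) (y : Y)
      rw [← hi, ← hj]
      exact hab.zpow_zpow i j), fun _ => rfl⟩
  have hprod : IsPGroup r (zpowers a × zpowers b) := by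
    obtain ⟨i, hi⟩ := IsPGroup.iff_card.1 (hcard a ha)
    obtain ⟨j, hj⟩ := IsPGroup.iff_card.1 (hcard b hb)
    exact IsPGroup.of_card (n := i + j) (by rw [Nat.card_prod, hi, hj, pow_add])
  obtain ⟨S, hS⟩ := (hprod.of_surjective Φ.rangeRestrict Φ.rangeRestrict_surjective).exists_le_sylow
  obtain ⟨P, hP⟩ := Sylow.mapSurjective_surjective (p := r) hf S
  have hcyc : IsCyclic (S : Subgroup Y) := by
    haveI := h.isCyclic hr P.2
    rw [← hP, Sylow.coe_mapSurjective]
    exact isCyclic_of_surjective (f.subgroupMap P) (f.subgroupMap_surjective P)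
  have haS : a ∈ (S : Subgroup Y) := hS ⟨(⟨a, mem_zpowers a⟩, 1), by rw [hΦ]; simp⟩
  have hbS : b ∈ (S : Subgroup Y) := hS ⟨(1, ⟨b, mem_zpowers b⟩), by rw [hΦ]; simp⟩
  have hord : orderOf b = r := orderOf_eq_prime hb hb1
  haveI := Fintype.ofFinite Y
  have hle := IsCyclic.card_pow_eq_one_le (α := (S : Subgroup Y)) hr'.pos
  obtain ⟨T, hT⟩ : ∃ T : Finset (S : Subgroup Y),
      T = (Finset.range r).image fun k => (⟨b, hbS⟩ : (S : Subgroup Y)) ^ k := ⟨_, rfl⟩
  have hTc : T.card = r := by
    rw [hT, Finset.card_image_of_injOn, Finset.card_range]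
    intro i hi j hj e
    have e' : b ^ i = b ^ j := congrArg Subtype.val e
    exact pow_injOn_Iio_orderOf (by simpa [hord] using hi) (by simpa [hord] using hj) e'
  by_contra hne
  simp only [not_exists] at hne
  have hnot : (⟨a, haS⟩ : (S : Subgroup Y)) ∉ T := by
    rw [hT, Finset.mem_image]
    rintro ⟨k, -, hk⟩
    exact hne k (congrArg Subtype.val hk).symm
  have hsub : insert (⟨a, haS⟩ : (S : Subgroup Y)) T ⊆ Finset.univ.filter fun x => x ^ r = 1 := by
    intro x hx
    refine Finset.mem_filter.2 ⟨Finset.mem_univ _, Subtype.ext ?_⟩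
    rcases Finset.mem_insert.1 hx with rfl | hx
    · exact ha
    · rw [hT, Finset.mem_image] at hx
      obtain ⟨k, -, rfl⟩ := hx
      show (b ^ k) ^ r = 1
      rw [← pow_mul, mul_comm, pow_mul, hb, one_pow]
  have h2 := Finset.card_le_card hsub
  rw [Finset.card_insert_of_notMem hnot, hTc] at h2
  omega

theorem alt_five_nonabelian : ¬ IsMulCommutative (alternatingGroup (Fin 5)) := fun h => by
  have e : ∀ x y : alternatingGroup (Fin 5), x * y = y * x := h.is_comm.comm
  have := e ⟨Equiv.swap 0 1 * Equiv.swap 1 2, by rw [Equiv.Perm.mem_alternatingGroup]; decide⟩ ⟨Equiv.swap 2 3 * Equiv.swap 3 4, by rw [Equiv.Perm.mem_alternatingGroup]; decide⟩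
  exact absurd this (by decide)

theorem alt_seven_pair : ∃ a b : alternatingGroup (Fin 7), a ^ 3 = 1 ∧ b ^ 3 = 1 ∧ Commute a b ∧ b ≠ 1 ∧
    ∀ k : ℕ, a ≠ b ^ k := by
  refine ⟨⟨Equiv.swap 0 1 * Equiv.swap 1 2, by rw [Equiv.Perm.mem_alternatingGroup]; decide⟩, ⟨Equiv.swap 3 4 * Equiv.swap 4 5, by rw [Equiv.Perm.mem_alternatingGroup]; decide⟩,
    by decide, by decide, show _ = _ by decide, by decide, fun k h => ?_⟩
  have hfix : ∀ j : ℕ, ((Equiv.swap (3 : Fin 7) 4 * Equiv.swap 4 5 : Equiv.Perm (Fin 7)) ^ j) 0 = 0 := fun j => by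
    induction j with
    | zero => rfl
    | succ j ih =>
      rw [pow_succ, Equiv.Perm.mul_apply, show (Equiv.swap (3 : Fin 7) 4 * Equiv.swap 4 5 : Equiv.Perm (Fin 7)) 0 = 0 by decide, ih]
  have h0 := DFunLike.congr_fun (congrArg Subtype.val h) (0 : Fin 7)
  rw [Subgroup.coe_pow, hfix] at h0
  exact absurd h0 (by decide)

theorem index_le_aut_five {H : Type u} [Group H] [Finite H] (X : Subgroup H) [X.Normal]
    (hHX : Group.IsSolvable (H ⧸ X)) (θ : X →* alternatingGroup (Fin 5)) (hθ : Function.Surjective θ)
    (hker : Group.IsSolvable θ.ker) : (Cfsg.solvableRadical H).index ≤ 120 := by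
  classical
  have hsimple : IsSimpleGroup (alternatingGroup (Fin 5)) := alternatingGroup.isSimpleGroup_five
  have hnab := alt_five_nonabelian
  have hinv : ∀ h : H, θ.ker.map (MulAut.conjNormal h : MulAut X).toMonoidHom = θ.ker := by
    have hle : ∀ h : H, θ.ker.map (MulAut.conjNormal h : MulAut X).toMonoidHom ≤ θ.ker := by
      intro h
      haveI hn : (θ.ker.map (MulAut.conjNormal h : MulAut X).toMonoidHom).Normal :=
        θ.normal_ker.map _ (MulEquiv.surjective _)
      haveI := hker
      have hs : Group.IsSolvable ((θ.ker.map (MulAut.conjNormal h : MulAut X).toMonoidHom).map θ) := by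
        haveI : Group.IsSolvable (θ.ker.map (MulAut.conjNormal h : MulAut X).toMonoidHom) :=
          Group.isSolvable_of_surjective ((MulAut.conjNormal h : MulAut X).toMonoidHom.subgroupMap_surjective _)
        exact Group.isSolvable_of_surjective (θ.subgroupMap_surjective _)
      rcases (hn.map θ hθ).eq_bot_or_eq_top with e | e
      · exact (Subgroup.map_eq_bot_iff _).1 e
      · exfalso
        apply hnab
        have : Group.IsSolvable (alternatingGroup (Fin 5)) := by
          rw [e] at hs
          haveI := hs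
          exact Group.isSolvable_of_surjective (f := (⊤ : Subgroup (alternatingGroup (Fin 5))).subtype)
            fun x => ⟨⟨x, mem_top x⟩, rfl⟩
        exact ⟨⟨fun a b => IsSimpleGroup.comm_iff_isSolvable.2 this a b⟩⟩
    intro h
    exact Subgroup.eq_of_le_of_card_ge (hle h) (by
      rw [Subgroup.card_map_of_injective (MulEquiv.injective _)])
  let e : X ⧸ θ.ker ≃* alternatingGroup (Fin 5) := QuotientGroup.quotientKerEquivOfSurjective θ hθ
  let ψ : H →* MulAut (X ⧸ θ.ker) :=
    { toFun := fun h => QuotientGroup.congr θ.ker θ.ker (MulAut.conjNormal h) (hinv h)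
      map_one' := MulEquiv.ext fun x => by
        induction x using QuotientGroup.induction_on with
        | _ x => exact congrArg (QuotientGroup.mk) (by simp)
      map_mul' := fun a b => MulEquiv.ext fun x => by
        induction x using QuotientGroup.induction_on with
        | _ x => exact congrArg (QuotientGroup.mk) (by simp) }
  haveI : Finite (MulAut (X ⧸ θ.ker)) := Finite.of_injective _ DFunLike.coe_injective
  have hA : Nat.card (MulAut (X ⧸ θ.ker)) = 120 := by
    rw [Nat.card_congr (MulAut.congr e).toEquiv]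
    have h := Nat.card_congr (MulEquiv.ofBijective (MulAut.conjNormal : Equiv.Perm (Fin 5) →* MulAut (alternatingGroup (Fin 5)))
      (CfsgLib.ClassSizes.AlternatingAut.conjNormal_bijective (by decide) (by decide))).toEquiv
    rw [Nat.card_eq_fintype_card, Fintype.card_perm, Fintype.card_fin] at h
    exact h.symm.trans rfl
  have hsol : Group.IsSolvable ψ.ker := by
    have hcomm : X.subgroupOf ψ.ker ≤ ((⊤ : Subgroup X).map X.subtype).subgroupOf ψ.ker := by
      rw [← MonoidHom.range_eq_map, Subgroup.range_subtype]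
    have hmem : ∀ w : X, (w : H) ∈ ψ.ker → w ∈ θ.ker := by
      intro w hw
      have hc : θ w ∈ center (alternatingGroup (Fin 5)) := by
        rw [mem_center_iff]
        intro y
        obtain ⟨y, rfl⟩ := hθ y
        have h1 := DFunLike.congr_fun (MonoidHom.mem_ker.1 hw) (QuotientGroup.mk y)
        have h2 : e (ψ (w : H) (QuotientGroup.mk y)) = e (QuotientGroup.mk y) := congrArg e h1
        have h3 : θ (MulAut.conjNormal (w : H) y) = θ y := h2
        have h4 : (MulAut.conjNormal (w : H) y) = w * y * w⁻¹ := Subtype.ext (by simp)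
        rw [h4, map_mul, map_mul, map_inv, mul_inv_eq_iff_eq_mul] at h3
        exact h3.symm
      have hcb : center (alternatingGroup (Fin 5)) = ⊥ := by
        rcases (inferInstance : (center (alternatingGroup (Fin 5))).Normal).eq_bot_or_eq_top with h | h
        · exact h
        · exact absurd ⟨⟨fun a b => mem_center_iff.1 (h ▸ mem_top b : b ∈ center _) a⟩⟩ hnab
      rw [hcb, Subgroup.mem_bot] at hc
      exact hc
    haveI := hker
    haveI : Group.IsSolvable (X.subgroupOf ψ.ker) := by
      let f : X.subgroupOf ψ.ker →* θ.ker :=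
        { toFun := fun w => ⟨⟨((w : ψ.ker) : H), w.2⟩, hmem _ w.1.2⟩
          map_one' := rfl
          map_mul' := fun a b => rfl }
      exact Group.isSolvable_of_isSolvable_injective (f := f) fun a b hab =>
        Subtype.ext (Subtype.ext (congrArg (fun z : θ.ker => ((z : X) : H)) hab))
    haveI : Group.IsSolvable (ψ.ker ⧸ X.subgroupOf ψ.ker) := by
      haveI := hHX
      let g : ψ.ker ⧸ X.subgroupOf ψ.ker →* H ⧸ X :=
        QuotientGroup.map (X.subgroupOf ψ.ker) X ψ.ker.subtype le_rfl
      refine Group.isSolvable_of_isSolvable_injective (f := g) ((injective_iff_map_eq_one g).2 fun z hz => ?_)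
      induction z using QuotientGroup.induction_on with
      | _ z =>
        change (QuotientGroup.mk (z : H) : H ⧸ X) = 1 at hz
        rw [QuotientGroup.eq_one_iff] at hz
        exact (QuotientGroup.eq_one_iff _).2 hz
    exact CfsgLib.HallNumber.solvable_ext (X.subgroupOf ψ.ker) inferInstance inferInstance
  have hle : ψ.ker ≤ Cfsg.solvableRadical H := le_sSup ⟨ψ.normal_ker, hsol⟩
  have h1 : ψ.ker.index ≤ 120 := by
    rw [Subgroup.index_ker, ← hA]
    exact Subgroup.card_le_card_group _
  exact (Nat.le_of_dvd (Nat.pos_of_ne_zero Subgroup.index_ne_zero_of_finite)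
    (Subgroup.index_dvd_of_le hle)).trans h1

/-- Over an algebraically closed field. -/
theorem good_main {H : Type u} [Group H] [Finite H] (hR : 120 < (Cfsg.solvableRadical H).index)
    {K : Type v} {V : Type w} [Field K] [IsAlgClosed K] [AddCommGroup V] [Module K V] [FiniteDimensional K V]
    (ρ : Representation K H V) : Good ρ := by
  classical
  by_contra hg
  haveI : Fact (Nat.Prime 2) := ⟨Nat.prime_two⟩
  haveI : Fact (Nat.Prime 3) := ⟨Nat.prime_three⟩
  haveI : Fact (Nat.Prime 5) := ⟨Nat.prime_five⟩
  have hnp : ∀ r : ℕ, r.Prime → r ≤ 5 → NoPair r H := by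
    intro r hr hr5 a b ha hb hab hb1
    haveI := Fact.mk hr
    by_contra hne
    simp only [not_exists] at hne
    exact hg (good_of_pair ρ hr5 ha hb hab hb1 hne)
  -- the perfect residual
  obtain ⟨n, hn⟩ : ∃ n, derivedSeries H (n + 1) = derivedSeries H n := by
    by_contra hc
    simp only [not_exists] at hc
    have hlt : ∀ n, Nat.card (derivedSeries H n) + n ≤ Nat.card H := by
      intro n
      induction n with
      | zero => simpa using Subgroup.card_le_card_group (derivedSeries H 0)
      | succ n ih =>
        have h1 : derivedSeries H (n + 1) ≤ derivedSeries H n := by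
          haveI := derivedSeries_normal H n
          rw [derivedSeries_succ]; exact commutator_le_left _ _
        have : Nat.card (derivedSeries H (n + 1)) < Nat.card (derivedSeries H n) :=
          lt_of_le_of_ne (Subgroup.card_le_of_le h1) fun e => hc n (Subgroup.eq_of_le_of_card_ge h1 e.ge)
        omega
    have := hlt (Nat.card H + 1)
    omega
  obtain ⟨X, hX⟩ : ∃ X, X = derivedSeries H n := ⟨_, rfl⟩
  haveI hXn : X.Normal := hX ▸ derivedSeries_normal H n
  rw [derivedSeries_succ, ← hX] at hn
  have hperf : commutator X = ⊤ := by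
    apply Subgroup.map_injective X.subtype_injective
    rw [Subgroup.map_subtype_commutator, hn, ← MonoidHom.range_eq_map, Subgroup.range_subtype]
  have hHX : Group.IsSolvable (H ⧸ X) := by
    refine ⟨⟨n, ?_⟩⟩
    rw [← map_derivedSeries_eq (QuotientGroup.mk'_surjective X), ← hX]
    exact (Subgroup.map_eq_bot_iff X).2 (QuotientGroup.ker_mk' X).ge
  have hins : ¬ Group.IsSolvable X := by
    intro hs
    have hH : Group.IsSolvable H := CfsgLib.HallNumber.solvable_ext X hs hHX
    have htop : (⊤ : Subgroup H) ≤ Cfsg.solvableRadical H :=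
      le_sSup ⟨inferInstance, Group.isSolvable_of_surjective (f := (Subgroup.topEquiv (G := H)).symm.toMonoidHom)
        (MulEquiv.surjective _)⟩
    rw [top_le_iff.1 htop, Subgroup.index_top] at hR
    omega
  have heven : Even (Nat.card X) := by
    rcases Nat.even_or_odd (Nat.card X) with h | h
    · exact h
    · exact absurd (CfsgLib.HallNumber.solvable_odd h) hins
  have h2K : (2 : K) ≠ 0 := fun e => by
    haveI : CharP K 2 := (CharP.charP_iff_prime_eq_zero Nat.prime_two).2 (by exact_mod_cast e)
    obtain ⟨t, ht⟩ := exists_prime_orderOf_dvd_card' (G := H) 2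
      ((even_iff_two_dvd.1 heven).trans X.card_subgroup_dvd_card)
    exact hg (good_of_char ρ (r := 2) (by norm_num) (g := t) (by rw [← ht, pow_orderOf_eq_one]) fun e => by
      rw [e, orderOf_one] at ht; norm_num at ht)
  have h1X : Cfsg.PRankLE 2 1 X := by
    intro A hA hexp
    by_cases hA1 : A = ⊥
    · rw [hA1, Subgroup.card_bot]; norm_num
    obtain ⟨⟨b, hb⟩, hb1⟩ : ∃ b : A, b ≠ 1 := by
      haveI := (Subgroup.nontrivial_iff_ne_bot A).2 hA1
      exact exists_ne 1
    have hb1' : b ≠ 1 := fun e => hb1 (Subtype.ext e)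
    have hsub : A ≤ zpowers b := by
      intro a ha
      obtain ⟨k, hk⟩ := ((hnp 2 Nat.prime_two (by norm_num)).of_hom X.subtype X.subtype_injective) a b (hexp a ha)
        (hexp b hb) (by exact congrArg Subtype.val (hA.is_comm.comm ⟨a, ha⟩ ⟨b, hb⟩)) hb1'
      exact hk ▸ pow_mem (mem_zpowers b) k
    refine (Subgroup.card_le_of_le hsub).trans ?_
    rw [Nat.card_zpowers, pow_one]
    exact Nat.le_of_dvd (by norm_num) (orderOf_dvd_of_pow_eq_one (hexp b hb))
  obtain ⟨mk, hmk⟩ : ∃ mk : X →* X ⧸ Cfsg.oddCore X, mk = QuotientGroup.mk' _ := ⟨_, rfl⟩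
  have hmks : Function.Surjective mk := hmk ▸ QuotientGroup.mk'_surjective _
  have hmkk : mk.ker = Cfsg.oddCore X := hmk ▸ QuotientGroup.ker_mk' _
  have hnpX : ∀ r : ℕ, r.Prime → r ≤ 5 → r ≠ 2 → NoPair r (X ⧸ Cfsg.oddCore X) := fun r hr hr5 hr2 => by
    haveI := Fact.mk hr
    exact ((hnp r hr hr5).of_hom X.subtype X.subtype_injective).quotient hr2 mk hmks
  rcases GW.Deps.perfect_rank_one GW.Final.gwStatement ⟨hperf⟩ h1X heven with
    ⟨F, _, _, hFodd, hF3, ⟨e⟩⟩ | hcover
  · haveI : DecidableEq F := Classical.decEq F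
    obtain ⟨p, hpF⟩ := CharP.exists F
    haveI := hpF
    obtain ⟨k, hp, hk⟩ := FiniteField.card F p
    haveI := Fact.mk hp
    have hp2 : p ≠ 2 := fun h => by
      rw [h] at hk
      rw [hk, Nat.odd_pow_iff k.ne_zero] at hFodd
      exact absurd hFodd (by decide)
    obtain ⟨ι, hι⟩ : ∃ ι : ZMod p →+* F, ι = ZMod.castHom (dvd_refl p) F := ⟨_, rfl⟩
    by_cases hp7 : 7 ≤ p
    · -- the subgroup over the prime field
      obtain ⟨f, hf, hfi⟩ : ∃ f : SL (ZMod p) →* Matrix.SpecialLinearGroup (Fin 2) F,
          f = Matrix.SpecialLinearGroup.map ι ∧ Function.Injective f := by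
        refine ⟨_, rfl, fun a b hab => Subtype.ext (Matrix.ext fun i j => ι.injective ?_)⟩
        exact congrFun (congrFun (congrArg Subtype.val hab) i) j
      obtain ⟨g, hgd⟩ : ∃ g : X →* Matrix.SpecialLinearGroup (Fin 2) F, g = e.toMonoidHom.comp mk := ⟨_, rfl⟩
      have hgs : Function.Surjective g := hgd ▸ e.surjective.comp hmks
      have hgk : g.ker = Cfsg.oddCore X := by
        ext y
        rw [MonoidHom.mem_ker, hgd, MonoidHom.comp_apply]
        refine e.map_eq_one_iff.trans ?_
        rw [← MonoidHom.mem_ker, hmkk]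
      obtain ⟨L0, hL0⟩ : ∃ L0, L0 = f.range.comap g := ⟨_, rfl⟩
      let π0 : L0 →* SL (ZMod p) := (MonoidHom.ofInjective hfi).symm.toMonoidHom.comp
        ((g.comp L0.subtype).codRestrict f.range fun y => by
          have h : (y : X) ∈ f.range.comap g := by rw [← hL0]; exact y.2
          exact h)
      let eL : L0 ≃* (L0.map X.subtype : Subgroup H) := L0.equivMapOfInjective X.subtype X.subtype_injective
      have hπs : Function.Surjective (π0.comp eL.symm.toMonoidHom) := by
        refine Function.Surjective.comp (g := π0) ?_ eL.symm.surjective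
        intro y
        obtain ⟨x, hx⟩ := hgs (f y)
        refine ⟨⟨x, hL0 ▸ ⟨y, hx.symm⟩⟩, ?_⟩
        refine (MonoidHom.ofInjective hfi).symm_apply_eq.2 (Subtype.ext ?_)
        exact hx
      have hodd : Odd (Nat.card (π0.comp eL.symm.toMonoidHom).ker) := by
        refine (GW.Deps.odd_card_core X).of_dvd_nat ?_
        let κ : (π0.comp eL.symm.toMonoidHom).ker →* Cfsg.oddCore X :=
          { toFun := fun y => ⟨(eL.symm y.1 : X), by
              rw [← hgk, MonoidHom.mem_ker]
              have h : (MonoidHom.ofInjective hfi).symm _ = 1 := MonoidHom.mem_ker.1 y.2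
              rw [MulEquiv.symm_apply_eq, map_one] at h
              exact congrArg Subtype.val h⟩
            map_one' := Subtype.ext (by simp)
            map_mul' := fun a b => Subtype.ext (show ((eL.symm (a.1 * b.1)) : X) = _ by rw [map_mul]; rfl) }
        refine Subgroup.card_dvd_of_injective κ fun a b hab => Subtype.ext ?_
        exact eL.symm.injective (Subtype.ext (congrArg (fun z : Cfsg.oddCore X => (z : X)) hab))
      by_cases h3K : (3 : K) = 0
      · haveI : CharP K 3 := (CharP.charP_iff_prime_eq_zero Nat.prime_three).2 (by exact_mod_cast h3K)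
        have h3d : 3 ∣ Nat.card X := by
          obtain ⟨x, hx⟩ := hgs (f (g3 1))
          have hd : orderOf (f (g3 (F := ZMod p) 1)) ∣ orderOf x := hx ▸ orderOf_map_dvd g x
          rw [orderOf_injective f hfi, orderOf_eq_prime (g3_cube _) (g3_ne_one _)] at hd
          exact hd.trans (orderOf_dvd_natCard x)
        obtain ⟨t, ht⟩ := exists_prime_orderOf_dvd_card' (G := H) 3 (h3d.trans X.card_subgroup_dvd_card)
        exact hg (good_of_char ρ (r := 3) (by norm_num) (g := t) (by rw [← ht, pow_orderOf_eq_one]) fun e => by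
          rw [e, orderOf_one] at ht; norm_num at ht)
      · have hstill : Still H := fun x a hx ha hc => by
          by_contra hne
          exact hg (good_of_three_moves ρ h3K hx ha hc hne)
        obtain ⟨φ, hφ⟩ := exists_injective_SL2 hp7 (hnp 3 Nat.prime_three (by norm_num)) hstill _
          (π0.comp eL.symm.toMonoidHom) hπs hodd
        exact hg ((good_SL2 hp7 h2K h3K (ρ.comp φ)).of_hom hφ)
    · have hp35 : p = 3 ∨ p = 5 := by
        have := hp.two_le
        interval_cases p <;> first | omega | (norm_num at hp)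
      by_cases hk1 : (k : ℕ) = 1
      · rw [hk1, pow_one] at hk
        have h5 : Fintype.card F = 5 := by omega
        obtain ⟨e5⟩ := CfsgLib.Classical.nonempty_psl_five_equiv_alt (F := F) h5
        obtain ⟨θ, hθd⟩ : ∃ θ : X →* alternatingGroup (Fin 5), θ = (e5.toMonoidHom.comp
            (QuotientGroup.mk' (center (Matrix.SpecialLinearGroup (Fin 2) F)))).comp (e.toMonoidHom.comp mk) :=
          ⟨_, rfl⟩
        have hθs : Function.Surjective θ := hθd ▸
          (e5.surjective.comp (QuotientGroup.mk'_surjective _)).comp (e.surjective.comp hmks)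
        have hker : Group.IsSolvable θ.ker := by
          haveI hsO : Group.IsSolvable (Cfsg.oddCore X) :=
            CfsgLib.HallNumber.solvable_odd (GW.Deps.odd_card_core X)
          let κ : θ.ker →* Matrix.SpecialLinearGroup (Fin 2) F := (e.toMonoidHom.comp mk).comp θ.ker.subtype
          haveI : Group.IsSolvable κ.range := by
            have hle : κ.range ≤ center (Matrix.SpecialLinearGroup (Fin 2) F) := by
              rintro _ ⟨y, rfl⟩
              have h1 : θ y.1 = 1 := MonoidHom.mem_ker.1 y.2
              have h2 := e5.map_eq_one_iff.1 ((DFunLike.congr_fun hθd (y : X)).symm.trans h1)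
              exact (QuotientGroup.eq_one_iff _).1 h2
            exact Group.isSolvable_of_comm fun a b => Subtype.ext ((mem_center_iff.1 (hle a.2) b.1).symm)
          haveI : Group.IsSolvable κ.ker := by
            let j : κ.ker →* Cfsg.oddCore X :=
              { toFun := fun y => ⟨((y : θ.ker) : X), by
                  rw [← hmkk, MonoidHom.mem_ker]
                  exact e.map_eq_one_iff.1 (MonoidHom.mem_ker.1 y.2)⟩
                map_one' := rfl
                map_mul' := fun a b => rfl }
            exact Group.isSolvable_of_isSolvable_injective (f := j) fun a b hab =>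
              Subtype.ext (Subtype.ext (congrArg (fun z : Cfsg.oddCore X => (z : X)) hab))
          haveI : Group.IsSolvable (θ.ker ⧸ κ.ker) :=
            Group.isSolvable_of_surjective (f := (QuotientGroup.quotientKerEquivRange κ).symm.toMonoidHom)
              (MulEquiv.surjective _)
          exact CfsgLib.HallNumber.solvable_ext κ.ker inferInstance inferInstance
        have := index_le_aut_five X hHX θ hθs hker
        omega
      · obtain ⟨t, ht⟩ : ∃ t : F, ∀ c : ZMod p, ι c ≠ t := by
          by_contra hc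
          simp only [not_exists, not_forall, not_not] at hc
          have hle := Fintype.card_le_of_surjective ι fun t => hc t
          rw [hk, ZMod.card] at hle
          have hk2 : 2 ≤ (k : ℕ) := by have := k.pos; omega
          have := Nat.pow_le_pow_right hp.pos hk2
          nlinarith [hp.two_le]
        have hSL : NoPair p (Matrix.SpecialLinearGroup (Fin 2) F) :=
          (hnpX p hp (by omega) hp2).of_hom e.symm.toMonoidHom e.symm.injective
        have hpow : ∀ (c : F) (m : ℕ), uu c ^ m = uu ((m : F) * c) := fun c m => by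
          induction m with
          | zero => simp [CfsgLib.Known.E8SL2.uu_zero]
          | succ m ih => rw [pow_succ, ih, ← CfsgLib.Known.E8SL2.uu_add, Nat.cast_succ, add_mul, one_mul]
        obtain ⟨m, hm⟩ := hSL (uu t) (uu 1) (by rw [hpow, CharP.cast_eq_zero, zero_mul, CfsgLib.Known.E8SL2.uu_zero])
          (by rw [hpow, CharP.cast_eq_zero, zero_mul, CfsgLib.Known.E8SL2.uu_zero])
          (by
            show uu t * uu 1 = uu 1 * uu t
            rw [← CfsgLib.Known.E8SL2.uu_add, ← CfsgLib.Known.E8SL2.uu_add, add_comm])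
          (fun h => by
            have := congrFun (congrFun (congrArg Subtype.val h) 0) 1
            simp [uu] at this)
        rw [hpow, mul_one] at hm
        have h01 := congrFun (congrFun (congrArg Subtype.val hm) 0) 1
        simp [uu] at h01
        exact ht (m : ZMod p) (by rw [map_natCast, h01])
  · obtain ⟨-, ⟨e7⟩, -⟩ := hcover
    have h7 := (hnpX 3 Nat.prime_three (by norm_num) (by norm_num)).quotient (by norm_num)
      (e7.toMonoidHom.comp (QuotientGroup.mk' _)) (e7.surjective.comp (QuotientGroup.mk'_surjective _))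
    obtain ⟨a, b, ha, hb, hab, hb1, hne⟩ := alt_seven_pair
    obtain ⟨k, hk⟩ := h7 a b ha hb hab hb1
    exact hne k hk

/-- The statement over any field. -/
theorem exists_large_fixed {H : Type u} [Group H] [Finite H] (hR : 120 < (Cfsg.solvableRadical H).index)
    {K : Type v} {V : Type w} [Field K] [AddCommGroup V] [Module K V] [FiniteDimensional K V]
    (ρ : Representation K H V) :
    ∃ h : H, h ≠ 1 ∧ (Module.finrank K V : ℚ) / 6 ≤ Module.finrank K (LinearMap.ker (ρ h - 1)) := by
  obtain ⟨h, h1, hd⟩ := good_of_extRep (AlgebraicClosure K) (good_main hR (extRep (AlgebraicClosure K) ρ))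
  refine ⟨h, h1, ?_⟩
  rw [← eig_one_eq, div_le_iff₀ (by norm_num), mul_comm]
  exact_mod_cast hd

end CfsgLib.FixedSpace
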