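import Cfsg.Agent.Lib.FixedSpace.Basic
import Cfsg.Agent.Lib.Known.E8SL2.Rep

/-!
# The four-term relation of `SL(2,p)` modulo fixed spaces of elements of order three

For a unit `a`, the element `g3 a = !![0, a; -a⁻¹, -1]` has order three, and `g + g⁻¹ + 1` has image in its fixed
space.  Four translates of these images combine to an element of the group algebra of the Borel subgroup.
-/

set_option autoImplicit false
set_option linter.all false

namespace CfsgLib.FixedSpace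

open Module Matrix
open CfsgLib.Perm.AltSection (eig mem_eig)
open CfsgLib.Known.E8SL2 (uu ww tt negOne uu_add uu_zero tt_mul tt_one tt_uu)
open scoped MatrixGroups

variable {F : Type*} [Field F]

/-- An element of order three. -/
def g3 (a : Fˣ) : CfsgLib.Known.E8SL2.SL F :=
  ⟨!![0, (a : F); -((a⁻¹ : Fˣ) : F), -1], by simp [Matrix.det_fin_two_of]⟩

theorem g3_cube (a : Fˣ) : g3 a ^ 3 = 1 := Subtype.ext (by
  rw [pow_succ, pow_two]
  show !![0, (a : F); -((a⁻¹ : Fˣ) : F), -1] * !![0, (a : F); -((a⁻¹ : Fˣ) : F), -1] *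
    !![0, (a : F); -((a⁻¹ : Fˣ) : F), -1] = 1
  simp [Matrix.one_fin_two])

theorem g3_ne_one (a : Fˣ) : g3 a ≠ 1 := fun h => by
  have h00 := congrFun (congrFun (congrArg Subtype.val h) 0) 0
  simp [g3] at h00

theorem g3_inv (a : Fˣ) : (g3 a)⁻¹ = g3 a * g3 a :=
  inv_eq_of_mul_eq_one_right (by rw [← mul_assoc, ← pow_two, ← pow_succ, g3_cube])

theorem tt_g3 (a : Fˣ) : tt a⁻¹ * g3 a = negOne F * (ww F * uu (a : F)) := Subtype.ext (by
  show !![((a⁻¹ : Fˣ) : F), 0; 0, ((a⁻¹⁻¹ : Fˣ) : F)] * !![0, (a : F); -((a⁻¹ : Fˣ) : F), -1] =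
    !![-1, 0; 0, -1] * (!![0, -1; 1, 0] * !![1, (a : F); 0, 1])
  simp)

theorem tt_g3_inv (a : Fˣ) : tt a⁻¹ * (g3 a)⁻¹ = uu (-((a⁻¹ : Fˣ) : F)) * ww F := by
  rw [g3_inv, ← mul_assoc]
  exact Subtype.ext (by
    show !![((a⁻¹ : Fˣ) : F), 0; 0, ((a⁻¹⁻¹ : Fˣ) : F)] * !![0, (a : F); -((a⁻¹ : Fˣ) : F), -1] *
      !![0, (a : F); -((a⁻¹ : Fˣ) : F), -1] = !![1, -((a⁻¹ : Fˣ) : F); 0, 1] * !![0, -1; 1, 0]
    simp)

theorem negOne_sq : negOne F * negOne F = 1 := Subtype.ext (by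
  show !![(-1 : F), 0; 0, -1] * !![-1, 0; 0, -1] = 1
  simp [Matrix.one_fin_two])

theorem negOne_comm (g : CfsgLib.Known.E8SL2.SL F) : Commute (negOne F) g := Subtype.ext (by
  show !![(-1 : F), 0; 0, -1] * g.1 = g.1 * !![-1, 0; 0, -1]
  rw [Matrix.eta_fin_two g.1]
  simp)

variable {K V : Type*} [Field K] [AddCommGroup V] [Module K V]
  (σ : Representation K (CfsgLib.Known.E8SL2.SL F) V)

/-- The image of a translate of `g + g⁻¹ + 1`. -/
noncomputable def rel (a : Fˣ) (i k : F) : End K V :=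
  σ (uu i * tt a⁻¹) * (σ (g3 a) + σ (g3 a)⁻¹ + 1) * σ (uu k)

theorem finrank_range_rel [FiniteDimensional K V] (a : Fˣ) (i k : F) :
    finrank K ↥(LinearMap.range (rel σ a i k)) ≤ finrank K ↥(eig (σ (g3 a)) 1) := by
  have h1 : LinearMap.range (rel σ a i k) ≤ (eig (σ (g3 a)) 1).map (σ (uu i * tt a⁻¹)) := by
    rintro _ ⟨v, rfl⟩
    refine ⟨(σ (g3 a) + σ (g3 a)⁻¹ + 1) (σ (uu k) v), mem_eig.2 ?_, rfl⟩
    generalize σ (uu k) v = w
    have e1 : σ (g3 a) (σ (g3 a) w) = σ (g3 a)⁻¹ w := by rw [← End.mul_apply, ← map_mul, ← g3_inv]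
    have e2 : σ (g3 a) (σ (g3 a)⁻¹ w) = w := by rw [← End.mul_apply, ← map_mul, mul_inv_cancel, map_one]; rfl
    rw [one_smul, LinearMap.add_apply, LinearMap.add_apply, End.one_apply, map_add, map_add, e1, e2]
    abel
  exact (Submodule.finrank_mono h1).trans (Submodule.finrank_map_le _ _)

/-- The Bruhat cell element. -/
noncomputable def bc (i k : F) : End K V := σ (uu i * ww F * uu k)

theorem rel_eq (a : Fˣ) (i k : F) :
    rel σ a i k = σ (negOne F) * bc σ i ((a : F) + k) + bc σ (i - ((a⁻¹ : Fˣ) : F)) k +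
      σ (uu i * tt a⁻¹ * uu k) := by
  rw [rel, mul_add, mul_add, mul_one, add_mul, add_mul, bc, bc, ← map_mul, ← map_mul, ← map_mul, ← map_mul, ← map_mul,
    ← map_mul]
  congr 3
  · rw [mul_assoc (uu i) (tt a⁻¹), tt_g3, uu_add, ← mul_assoc (uu i), (negOne_comm (uu i)).eq.symm]
    simp only [mul_assoc]
  · rw [mul_assoc (uu i) (tt a⁻¹), tt_g3_inv, sub_eq_add_neg, uu_add]
    simp only [mul_assoc]

/-- The combination lying in the group algebra of the Borel subgroup. -/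
noncomputable def borel (r : Fˣ) : End K V :=
  σ (uu (1 + ((r⁻¹ : Fˣ) : F)) * tt r⁻¹ * uu 1) - σ (uu (1 + ((r⁻¹ : Fˣ) : F)) * tt 1⁻¹ * uu (r : F)) -
    σ (negOne F) * σ (uu 1 * tt 1⁻¹ * uu 0) + σ (negOne F) * σ (uu ((r⁻¹ : Fˣ) : F) * tt r⁻¹ * uu 0)

theorem borel_eq (r : Fˣ) :
    borel σ r = rel σ r (1 + ((r⁻¹ : Fˣ) : F)) 1 - rel σ 1 (1 + ((r⁻¹ : Fˣ) : F)) (r : F) -
      σ (negOne F) * rel σ 1 1 0 + σ (negOne F) * rel σ r ((r⁻¹ : Fˣ) : F) 0 := by
  have hz : ∀ T : End K V, σ (negOne F) * (σ (negOne F) * T) = T := fun T => by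
    rw [← mul_assoc, ← map_mul, negOne_sq, map_one, one_mul]
  simp only [rel_eq, borel, Units.val_one, inv_one, mul_add, hz, add_sub_cancel_right, sub_self, add_sub_cancel_left,
    add_zero, add_comm (r : F) 1]
  abel

theorem finrank_range_borel [FiniteDimensional K V] (r : Fˣ) :
    finrank K ↥(LinearMap.range (borel σ r)) ≤
      2 * finrank K ↥(eig (σ (g3 1)) 1) + 2 * finrank K ↥(eig (σ (g3 r)) 1) := by
  rw [borel_eq]
  have hsub : ∀ S T : End K V, finrank K ↥(LinearMap.range (S + T)) ≤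
      finrank K ↥(LinearMap.range S) + finrank K ↥(LinearMap.range T) := fun S T =>
    (Submodule.finrank_mono (LinearMap.range_add_le S T)).trans (Submodule.finrank_add_le_finrank_add_finrank _ _)
  have hsub' : ∀ S T : End K V, finrank K ↥(LinearMap.range (S - T)) ≤
      finrank K ↥(LinearMap.range S) + finrank K ↥(LinearMap.range T) := fun S T => by
    rw [sub_eq_add_neg]
    exact (hsub _ _).trans_eq (by rw [LinearMap.range_neg])
  have hmul : ∀ S T : End K V, finrank K ↥(LinearMap.range (S * T)) ≤ finrank K ↥(LinearMap.range T) := fun S T => by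
    rw [End.mul_eq_comp, LinearMap.range_comp]
    exact Submodule.finrank_map_le _ _
  refine (hsub _ _).trans ((Nat.add_le_add_right ((hsub' _ _).trans (Nat.add_le_add_right (hsub' _ _) _)) _).trans ?_)
  have a1 := finrank_range_rel σ r (1 + ((r⁻¹ : Fˣ) : F)) 1
  have a2 := finrank_range_rel σ 1 (1 + ((r⁻¹ : Fˣ) : F)) (r : F)
  have a3 := (hmul (σ (negOne F)) (rel σ 1 1 0)).trans (finrank_range_rel σ 1 1 0)
  have a4 := (hmul (σ (negOne F)) (rel σ r ((r⁻¹ : Fˣ) : F) 0)).trans (finrank_range_rel σ r _ 0)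
  omega

end CfsgLib.FixedSpace
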