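import Cfsg.Agent.Lib.FixedSpace.Relation

/-!
# The weight functional of a representation of `SL(2,p)` in characteristic `p`

With `N` a nilpotent operator of the unipotent group lowering weights by two, `Ineq` compares the dimension
with the fixed space of an element of order three and three ranks of `N`; it is additive in extensions and
bounds the dimension by `4 f + 2 u`, where `u` is the fixed space of the unipotent group.
-/

set_option autoImplicit false
set_option linter.all false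

namespace CfsgLib.FixedSpace

open Module Matrix
open CfsgLib.Perm.AltSection (eig mem_eig pow_eig proj apply_proj)
open CfsgLib.Known.E8SL2 (uu ww tt negOne uu_add uu_zero tt_mul tt_one tt_uu SL)

variable {p : ℕ} [Fact p.Prime] {K : Type*} [Field K] [CharP K p]
variable {V : Type*} [AddCommGroup V] [Module K V]

/-- The prime field in `K`. -/
def cst (p : ℕ) [Fact p.Prime] (K : Type*) [Field K] [CharP K p] : ZMod p →+* K := ZMod.castHom (dvd_refl p) K

/-- The lowering operator. -/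
noncomputable def nop (σ : Representation K (SL (ZMod p)) V) : End K V :=
  - ∑ t : (ZMod p)ˣ, cst p K ((t⁻¹ : (ZMod p)ˣ) : ZMod p) • σ (uu (t : ZMod p))

/-- The weight spaces. -/
noncomputable def wt (σ : Representation K (SL (ZMod p)) V) (r : (ZMod p)ˣ) (w : ℤ) : Submodule K V :=
  eig (σ (tt r)) (cst p K (r : ZMod p) ^ (-w))

/-- The rank of the lowering operator on a weight space. -/
noncomputable def rk (σ : Representation K (SL (ZMod p)) V) (r : (ZMod p)ˣ) (w : ℤ) : ℕ :=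
  finrank K ↥((wt σ r w).map (nop σ))

/-- A kernel in a weight space. -/
noncomputable def kp (σ : Representation K (SL (ZMod p)) V) (r : (ZMod p)ˣ) (j : ℕ) (w : ℤ) : ℕ :=
  finrank K ↥(wt σ r w ⊓ LinearMap.ker (nop σ ^ j))

/-- The inequality. -/
def Ineq (σ : Representation K (SL (ZMod p)) V) (r : (ZMod p)ˣ) (m : ℕ) : Prop :=
  finrank K V + 2 * kp σ r m 3 ≤ 4 * finrank K ↥(eig (σ (g3 1)) 1) + rk σ r 2 + 2 * rk σ r 1

theorem tt_nop (σ : Representation K (SL (ZMod p)) V) (r : (ZMod p)ˣ) (v : V) :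
    σ (tt r) (nop σ v) = cst p K (r : ZMod p) ^ 2 • nop σ (σ (tt r) v) := by
  simp only [nop, LinearMap.neg_apply, LinearMap.sum_apply, LinearMap.smul_apply, map_neg, map_sum, map_smul,
    smul_neg, Finset.smul_sum]
  congr 1
  refine Fintype.sum_equiv (Equiv.mulLeft (r * r)) _ _ fun t => ?_
  rw [Equiv.coe_mulLeft, smul_smul, ← End.mul_apply, ← map_mul, tt_uu, map_mul, End.mul_apply, ← map_pow, ← map_mul]
  congr 2
  rw [← Units.val_pow_eq_pow_val, ← Units.val_mul]
  congr 1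
  rw [pow_two, _root_.mul_inv_rev, mul_comm t⁻¹, mul_inv_cancel_left]

theorem nop_wt (σ : Representation K (SL (ZMod p)) V) (r : (ZMod p)ˣ) {w : ℤ} {v : V} (hv : v ∈ wt σ r w) :
    nop σ v ∈ wt σ r (w - 2) := by
  rw [wt, mem_eig] at hv ⊢
  rw [tt_nop, hv, map_smul, smul_smul, ← zpow_natCast, ← zpow_add₀ (by simp)]
  congr 2
  push_cast; ring

theorem nop_pow_wt (σ : Representation K (SL (ZMod p)) V) (r : (ZMod p)ˣ) {w : ℤ} {v : V} (hv : v ∈ wt σ r w)
    (j : ℕ) : (nop σ ^ j) v ∈ wt σ r (w - 2 * j) := by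
  induction j with
  | zero => simpa using hv
  | succ j ih =>
    rw [pow_succ', End.mul_apply, show w - 2 * ((j + 1 : ℕ) : ℤ) = w - 2 * (j : ℤ) - 2 by push_cast; ring]
    exact nop_wt σ r ih

theorem cst_pow_inj {r : (ZMod p)ˣ} {n : ℕ} (hr : orderOf r = n) :
    IsPrimitiveRoot (cst p K (r : ZMod p)) n := by
  have := (IsPrimitiveRoot.orderOf r).map_of_injective (f := Units.coeHom (ZMod p)) Units.val_injective
  rw [hr] at this
  exact this.map_of_injective (f := cst p K) (cst p K).injective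

theorem wt_congr (σ : Representation K (SL (ZMod p)) V) {r : (ZMod p)ˣ} {n : ℕ} (hr : orderOf r = n) {w w' : ℤ}
    (h : (n : ℤ) ∣ w - w') : wt σ r w = wt σ r w' := by
  rw [wt, wt]
  congr 1
  obtain ⟨c, hc⟩ := h
  rw [show -w = -w' + (n : ℤ) * (-c) by linear_combination (-1 : ℤ) * hc, zpow_add₀ (by simp), _root_.zpow_mul,
    zpow_natCast, (cst_pow_inj (K := K) hr).pow_eq_one, _root_.one_zpow, mul_one]

/-- The powers of a unipotent element to the second order. -/
theorem exists_expand (u : End K V) (k : ℕ) :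
    ∃ R : End K V, Commute R u ∧ u ^ k - 1 = (u - 1) * ((k : K) • (1 : End K V) + (u - 1) * R) := by
  induction k with
  | zero => exact ⟨0, Commute.zero_left _, by simp⟩
  | succ k ih =>
    obtain ⟨R, hR, h⟩ := ih
    refine ⟨R * u + (k : K) • (1 : End K V),
      (hR.mul_left (Commute.refl u)).add_left ((Commute.one_left u).smul_left _), ?_⟩
    rw [pow_succ, show u ^ k * u - 1 = (u ^ k - 1) * u + (u - 1) by noncomm_ring, h]
    obtain ⟨c, hc⟩ : ∃ c, c = (k : K) • (1 : End K V) := ⟨_, rfl⟩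
    rw [← hc, Nat.cast_succ, add_smul, one_smul, ← hc]
    have hcu : c * u = u * c := by rw [hc, smul_one_mul, mul_smul_one]
    calc (u - 1) * (c + (u - 1) * R) * u + (u - 1) = (u - 1) * (c * u + (u - 1) * (R * u) + 1) := by noncomm_ring
      _ = (u - 1) * (c + 1 + (u - 1) * (R * u + c)) := by rw [hcu]; noncomm_ring

theorem uu_pow (σ : Representation K (SL (ZMod p)) V) (n : ℕ) : σ (uu 1) ^ n = σ (uu (n : ZMod p)) := by
  induction n with
  | zero => simp [uu_zero]
  | succ n ih => rw [pow_succ, ih, Nat.cast_succ, uu_add, map_mul]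

theorem exists_unit_factor (hp : 3 ≤ p) (σ : Representation K (SL (ZMod p)) V) :
    ∃ R : End K V, Commute R (σ (uu 1)) ∧
      nop σ = (σ (uu 1) - 1) * (1 - (σ (uu 1) - 1) * R) ∧ (σ (uu 1) - 1) ^ p = 0 := by
  choose R hR h using fun t : (ZMod p)ˣ => exists_expand (σ (uu (1 : ZMod p))) ((t : ZMod p).val)
  refine ⟨∑ t : (ZMod p)ˣ, cst p K ((t⁻¹ : (ZMod p)ˣ) : ZMod p) • R t,
    Commute.sum_left _ _ _ fun t _ => (hR t).smul_left _, ?_, ?_⟩
  · have h0 : ∑ t : (ZMod p)ˣ, cst p K ((t⁻¹ : (ZMod p)ˣ) : ZMod p) = 0 := by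
      rw [← map_sum]
      have e : ∑ t : (ZMod p)ˣ, ((t⁻¹ : (ZMod p)ˣ) : ZMod p) = ∑ t : (ZMod p)ˣ, ((t ^ 1 : (ZMod p)ˣ) : ZMod p) :=
        Fintype.sum_equiv (Equiv.inv _) _ _ fun t => by rw [pow_one]; rfl
      rw [e]
      simp only [Units.val_pow_eq_pow_val]
      rw [FiniteField.sum_pow_units, if_neg (by rw [ZMod.card]; intro hd; have := Nat.le_of_dvd one_pos hd; omega),
        map_zero]
    have h1 : ∀ t : (ZMod p)ˣ, cst p K ((t⁻¹ : (ZMod p)ˣ) : ZMod p) * ((t : ZMod p).val : K) = 1 := fun t => by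
      rw [← map_natCast (cst p K), ← map_mul, ZMod.natCast_zmod_val, Units.inv_mul, map_one]
    have hu : ∀ t : (ZMod p)ˣ, σ (uu (t : ZMod p)) = 1 + (σ (uu 1) - 1) * (((t : ZMod p).val : K) • (1 : End K V) +
        (σ (uu 1) - 1) * R t) := fun t => by
      rw [← h t, uu_pow, ZMod.natCast_zmod_val, add_sub_cancel]
    simp only [nop, hu, smul_add, Finset.sum_add_distrib, ← Finset.sum_smul, h0, zero_smul, zero_add]
    simp only [← mul_smul_comm, smul_add, smul_smul, h1, one_smul, ← Finset.mul_sum, Finset.sum_add_distrib,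
      Finset.sum_const, Finset.card_univ, ZMod.card_units]
    rw [show ((p - 1 : ℕ) • (1 : End K V)) = -1 by
      rw [← Nat.cast_smul_eq_nsmul K, Nat.cast_sub (by omega), CharP.cast_eq_zero, Nat.cast_one, zero_sub, neg_smul,
        one_smul]]
    noncomm_ring
  · by_cases hV : Subsingleton V
    · exact LinearMap.ext fun v => Subsingleton.elim _ _
    haveI := not_subsingleton_iff_nontrivial.1 hV
    haveI : CharP (End K V) p :=
      charP_of_injective_algebraMap (R := K) (FaithfulSMul.algebraMap_injective K (End K V)) p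
    rw [sub_pow_char_of_commute p (Commute.one_right _), uu_pow, ZMod.natCast_self, uu_zero, map_one, one_pow,
      sub_self]

theorem ker_nop_le (hp : 3 ≤ p) (σ : Representation K (SL (ZMod p)) V) :
    LinearMap.ker (nop σ) ≤ eig (σ (uu 1)) 1 := by
  obtain ⟨R, hR, hN, hD⟩ := exists_unit_factor hp σ
  intro v hv
  obtain ⟨D, hDd⟩ : ∃ D, D = σ (uu (1 : ZMod p)) - 1 := ⟨_, rfl⟩
  rw [← hDd] at hN hD
  have hRD : Commute R D := hDd ▸ hR.sub_right (Commute.one_right R)
  rw [LinearMap.mem_ker, hN, mul_sub, mul_one, LinearMap.sub_apply, sub_eq_zero, ← mul_assoc, mul_assoc D D R,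
    ← hRD.eq, ← mul_assoc] at hv
  have hit : ∀ n : ℕ, D v = ((D * R) ^ n) (D v) := by
    intro n
    induction n with
    | zero => simp
    | succ n ih =>
      rw [pow_succ, End.mul_apply, ← End.mul_apply (D * R) D, ← hv, ← ih]
  have h := hit p
  rw [hRD.symm.mul_pow, hD, zero_mul] at h
  rw [eig_one_eq, ← hDd]
  exact LinearMap.mem_ker.2 (h.trans (LinearMap.zero_apply _))

theorem nop_pow_p (hp : 3 ≤ p) (σ : Representation K (SL (ZMod p)) V) : nop σ ^ p = 0 := by
  obtain ⟨R, hR, hN, hD⟩ := exists_unit_factor hp σ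
  have hc : Commute (σ (uu 1) - 1) (1 - (σ (uu 1) - 1) * R) :=
    (Commute.one_right _).sub_right ((Commute.refl _).mul_right ((hR.sub_right (Commute.one_right R)).symm))
  rw [hN, hc.mul_pow, hD, zero_mul]

section Bound

variable [FiniteDimensional K V]

/-- The layers of a weight space. -/
noncomputable def layer (σ : Representation K (SL (ZMod p)) V) (r : (ZMod p)ˣ) (j : ℕ) (w : ℤ) : ℕ :=
  finrank K ↥((wt σ r w ⊓ LinearMap.ker (nop σ ^ (j + 1))).map (nop σ ^ j))

theorem layer_le (σ : Representation K (SL (ZMod p)) V) {r : (ZMod p)ˣ} {n : ℕ} (hr : orderOf r = n) (j s : ℕ)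
    {w w' : ℤ} (h : (n : ℤ) ∣ w - 2 * s - w') : layer σ r (j + s) w ≤ layer σ r j w' := by
  refine Submodule.finrank_mono ?_
  rintro _ ⟨v, ⟨hv1, hv2⟩, rfl⟩
  refine ⟨(nop σ ^ s) v, ⟨wt_congr σ hr h ▸ nop_pow_wt σ r hv1 s, LinearMap.mem_ker.2 ?_⟩, ?_⟩
  · rw [← End.mul_apply, ← pow_add, show j + 1 + s = j + s + 1 by omega]
    exact LinearMap.mem_ker.1 hv2
  · rw [← End.mul_apply, ← pow_add]

theorem kp_succ (σ : Representation K (SL (ZMod p)) V) (r : (ZMod p)ˣ) (j : ℕ) (w : ℤ) :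
    kp σ r (j + 1) w = kp σ r j w + layer σ r j w := by
  rw [kp, finrank_split (nop σ ^ j) (wt σ r w ⊓ LinearMap.ker (nop σ ^ (j + 1)))]
  congr 1
  rw [kp]
  refine congrArg (fun S : Submodule K V => finrank K ↥S) (le_antisymm ?_ ?_)
  · rintro v ⟨⟨h1, -⟩, h3⟩; exact ⟨h1, h3⟩
  · rintro v ⟨h1, h3⟩
    refine ⟨⟨h1, LinearMap.mem_ker.2 ?_⟩, h3⟩
    rw [pow_succ', End.mul_apply, LinearMap.mem_ker.1 h3, map_zero]

theorem kp_eq_sum (σ : Representation K (SL (ZMod p)) V) (r : (ZMod p)ˣ) (j : ℕ) (w : ℤ) :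
    kp σ r j w = ∑ i ∈ Finset.range j, layer σ r i w := by
  induction j with
  | zero => simp [kp, Module.End.one_eq_id]
  | succ j ih => rw [kp_succ, Finset.sum_range_succ, ih]

theorem rk_eq_sum (hp : 3 ≤ p) {m : ℕ} (hm : p = 2 * m + 1) (σ : Representation K (SL (ZMod p)) V)
    (r : (ZMod p)ˣ) (w : ℤ) : rk σ r w = ∑ i ∈ Finset.range (2 * m), layer σ r (i + 1) w := by
  have h1 : kp σ r (2 * m + 1) w = finrank K ↥(wt σ r w) := by
    rw [← hm, kp, nop_pow_p hp σ, LinearMap.ker_zero, inf_top_eq]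
  have h2 := finrank_split (nop σ) (wt σ r w)
  have h3 : kp σ r 1 w = finrank K ↥(wt σ r w ⊓ LinearMap.ker (nop σ)) := by rw [kp, pow_one]
  rw [kp_eq_sum, Finset.sum_range_succ'] at h1
  rw [kp_eq_sum, Finset.sum_range_one] at h3
  rw [rk]
  omega

theorem sum_range_double (f : ℕ → ℕ) (n : ℕ) :
    ∑ i ∈ Finset.range (2 * n), f i =
      (∑ k ∈ Finset.range n, f (2 * k)) + ∑ k ∈ Finset.range n, f (2 * k + 1) := by
  induction n with
  | zero => simp
  | succ n ih =>
    rw [show 2 * (n + 1) = 2 * n + 1 + 1 by ring, Finset.sum_range_succ, Finset.sum_range_succ, ih,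
      Finset.sum_range_succ, Finset.sum_range_succ]
    ring

/-- The functional bounds the dimension. -/
theorem bound {m : ℕ} (hm : p = 2 * m + 1) (hm3 : 3 ≤ m) {r : (ZMod p)ˣ} (hr : orderOf r = 2 * m)
    (σ : Representation K (SL (ZMod p)) V) (h : Ineq σ r m) :
    finrank K V ≤ 4 * finrank K ↥(eig (σ (g3 1)) 1) + 2 * finrank K ↥(eig (σ (uu 1)) 1) := by
  have hp : 3 ≤ p := by omega
  obtain ⟨g, hg⟩ : ∃ g : ℕ → ℕ, ∀ i : ℕ, g i = layer σ r 0 (-(i : ℤ)) := ⟨_, fun _ => rfl⟩
  have hker : ∑ i ∈ Finset.range (2 * m), g i ≤ finrank K ↥(eig (σ (uu (1 : ZMod p))) 1) := by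
    refine le_trans (le_of_eq (Finset.sum_congr rfl fun i _ => ?_))
      ((sum_inf_eig_le (σ (tt r)) (LinearMap.ker (nop σ)) (Finset.range (2 * m))
        (fun i => cst p K (r : ZMod p) ^ i) (injOn_pow (cst_pow_inj hr))).trans
          (Submodule.finrank_mono (ker_nop_le hp σ)))
    rw [hg, layer, zero_add, pow_one, pow_zero, End.one_eq_id, Submodule.map_id, wt, neg_neg, zpow_natCast, inf_comm]
  have L := fun j s w w' h => layer_le σ hr j s (w := w) (w' := w') h
  have h2 : rk σ r 2 ≤ 2 * ∑ k ∈ Finset.range m, g (2 * k) := by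
    rw [rk_eq_sum hp hm, show 2 * m = m + m by ring, Finset.sum_range_add, two_mul]
    refine Nat.add_le_add (Finset.sum_le_sum fun k _ => ?_) (Finset.sum_le_sum fun k _ => ?_) <;> rw [hg]
    · have := L 0 (k + 1) 2 (-((2 * k : ℕ) : ℤ)) ⟨0, by push_cast; ring⟩
      rwa [zero_add] at this
    · have := L 0 (m + k + 1) 2 (-((2 * k : ℕ) : ℤ)) ⟨-1, by push_cast; ring⟩
      rwa [zero_add] at this
  have h1 : rk σ r 1 ≤ kp σ r m 3 + ∑ k ∈ Finset.range m, g (2 * k + 1) := by
    rw [rk_eq_sum hp hm, show 2 * m = m + m by ring, Finset.sum_range_add, add_comm (kp σ r m 3)]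
    refine Nat.add_le_add (Finset.sum_le_sum fun k _ => ?_) ?_
    · rw [hg]
      have := L 0 (k + 1) 1 (-((2 * k + 1 : ℕ) : ℤ)) ⟨0, by push_cast; ring⟩
      rwa [zero_add] at this
    · obtain ⟨μ, rfl⟩ : ∃ μ, m = μ + 2 := ⟨m - 2, by omega⟩
      rw [kp_eq_sum, Finset.sum_range_succ, Finset.sum_range_succ,
        Finset.sum_range_succ' _ (μ + 1), Finset.sum_range_succ' _ μ]
      have e1 : ∑ k ∈ Finset.range μ, layer σ r (μ + 2 + k + 1) 1 ≤
          ∑ k ∈ Finset.range μ, layer σ r (k + 1 + 1) 3 := Finset.sum_le_sum fun k _ => by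
        have := L (k + 2) (μ + 1) 1 3 ⟨-1, by push_cast; ring⟩
        rwa [show k + 2 + (μ + 1) = μ + 2 + k + 1 by omega] at this
      have e2 : layer σ r (μ + 2 + μ + 1) 1 ≤ layer σ r 0 3 := by
        have := L 0 (μ + 2 + μ + 1) 1 3 ⟨-2, by push_cast; ring⟩
        rwa [zero_add] at this
      have e3 : layer σ r (μ + 2 + (μ + 1) + 1) 1 ≤ layer σ r (0 + 1) 3 := by
        have := L 1 (μ + 2 + μ + 1) 1 3 ⟨-2, by push_cast; ring⟩
        rwa [show 1 + (μ + 2 + μ + 1) = μ + 2 + (μ + 1) + 1 by omega] at this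
      omega
  rw [sum_range_double] at hker
  unfold Ineq at h
  omega

end Bound

section Exact

variable {S Q : Type*} [AddCommGroup S] [Module K S] [AddCommGroup Q] [Module K Q]
  {σ : Representation K (SL (ZMod p)) V}

theorem map_nop {τ : Representation K (SL (ZMod p)) Q} {π : V →ₗ[K] Q} (hπ : ∀ g v, π (σ g v) = τ g (π v))
    (v : V) : π (nop σ v) = nop τ (π v) := by
  simp only [nop, LinearMap.neg_apply, LinearMap.sum_apply, LinearMap.smul_apply, map_neg, map_sum, map_smul, hπ]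

theorem map_nop_pow {τ : Representation K (SL (ZMod p)) Q} {π : V →ₗ[K] Q} (hπ : ∀ g v, π (σ g v) = τ g (π v))
    (j : ℕ) (v : V) : π ((nop σ ^ j) v) = (nop τ ^ j) (π v) := by
  induction j generalizing v with
  | zero => rfl
  | succ j ih => rw [pow_succ, End.mul_apply, ih, map_nop hπ, pow_succ, End.mul_apply]

theorem map_eig {τ : Representation K (SL (ZMod p)) Q} {π : V →ₗ[K] Q} (hπ : ∀ g v, π (σ g v) = τ g (π v))
    {g : SL (ZMod p)} {c : K} {v : V} (hv : v ∈ eig (σ g) c) : π v ∈ eig (τ g) c := by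
  rw [mem_eig, ← hπ, mem_eig.1 hv, map_smul]

theorem lift_eig {τ : Representation K (SL (ZMod p)) Q} {π : V →ₗ[K] Q} (hπ : ∀ g v, π (σ g v) = τ g (π v))
    (hs : Function.Surjective π) {g : SL (ZMod p)} {n : ℕ} (hn : (n : K) ≠ 0) (hgn : g ^ n = 1) {c : K}
    (hc : c ^ n = 1) : (eig (σ g) c).map π = eig (τ g) c := by
  refine le_antisymm (fun q ⟨v, hv, e⟩ => e ▸ map_eig hπ hv) fun q hq => ?_
  have hc0 : c ≠ 0 := fun e => by
    rw [e, zero_pow (fun h => hn (by rw [h, Nat.cast_zero]))] at hc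
    exact zero_ne_one hc
  obtain ⟨v, rfl⟩ := hs q
  refine ⟨proj (σ g) n c v, mem_eig.2 (apply_proj (rho_pow σ hgn) hc0 hc v), ?_⟩
  have e : ∀ j : ℕ, π ((σ g ^ j) v) = c ^ j • π v := fun j => by
    rw [← map_pow, hπ, map_pow, pow_eig (mem_eig.1 hq)]
  simp only [proj, LinearMap.smul_apply, LinearMap.sum_apply, map_smul, map_sum, e, smul_smul, ← mul_pow,
    inv_mul_cancel₀ hc0, one_pow, one_smul, Finset.sum_const, Finset.card_range, ← Nat.cast_smul_eq_nsmul K,
    inv_mul_cancel₀ hn]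

theorem tt_pow (a : (ZMod p)ˣ) (k : ℕ) : tt a ^ k = tt (a ^ k) := by
  induction k with
  | zero => rw [pow_zero, pow_zero, tt_one]
  | succ k ih => rw [pow_succ, pow_succ, tt_mul, ih]

/-- The inequality passes to extensions. -/
theorem Ineq.extension [FiniteDimensional K V] [FiniteDimensional K S] [FiniteDimensional K Q] {m : ℕ}
    (hm : p = 2 * m + 1) (hm3 : 3 ≤ m) {r : (ZMod p)ˣ} (hr : orderOf r = 2 * m)
    {σS : Representation K (SL (ZMod p)) S} {σQ : Representation K (SL (ZMod p)) Q}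
    {i : S →ₗ[K] V} {π : V →ₗ[K] Q} (hi : ∀ g s, i (σS g s) = σ g (i s)) (hπ : ∀ g v, π (σ g v) = σQ g (π v))
    (hinj : Function.Injective i) (hs : Function.Surjective π) (hex : LinearMap.range i = LinearMap.ker π)
    (hS : Ineq σS r m) (hQ : Ineq σQ r m) : Ineq σ r m := by
  have hp' : p.Prime := Fact.out
  have h2m : ((2 * m : ℕ) : K) ≠ 0 := fun e => by
    rw [CharP.cast_eq_zero_iff K p] at e
    have := Nat.le_of_dvd (by omega) e
    omega
  have h3K : ((3 : ℕ) : K) ≠ 0 := fun e => by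
    rw [CharP.cast_eq_zero_iff K p] at e
    have := Nat.le_of_dvd (by omega) e
    omega
  have hT : tt r ^ (2 * m) = 1 := by rw [tt_pow, ← hr, pow_orderOf_eq_one, tt_one]
  have hc : ∀ w : ℤ, (cst p K (r : ZMod p) ^ (-w)) ^ (2 * m) = 1 := fun w => by
    rw [← zpow_natCast, ← _root_.zpow_mul, mul_comm, _root_.zpow_mul, zpow_natCast,
      (cst_pow_inj hr).pow_eq_one, _root_.one_zpow]
  have split : ∀ A : Submodule K V, finrank K ↥A = finrank K ↥(A.comap i) + finrank K ↥(A.map π) := fun A => by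
    rw [finrank_split π A, ← hex]
    congr 1
    rw [inf_comm, ← Submodule.map_comap_eq]
    exact (Submodule.equivMapOfInjective i hinj _).finrank_eq.symm
  have comap_eig : ∀ g c, (eig (σ g) c).comap i = eig (σS g) c := fun g c => by
    ext s
    rw [Submodule.mem_comap, mem_eig, mem_eig, ← hi, ← map_smul, hinj.eq_iff]
  have d1 : finrank K V = finrank K S + finrank K Q := by
    have h := split ⊤
    rwa [Submodule.comap_top, Submodule.map_top, LinearMap.range_eq_top.2 hs, finrank_top, finrank_top,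
      finrank_top] at h
  have d2 : finrank K ↥(eig (σ (g3 1)) 1) = finrank K ↥(eig (σS (g3 1)) 1) + finrank K ↥(eig (σQ (g3 1)) 1) := by
    rw [split, comap_eig, lift_eig hπ hs h3K (g3_cube 1) (one_pow _)]
  have d3 : ∀ w, rk σS r w + rk σQ r w ≤ rk σ r w := fun w => by
    rw [rk, rk, rk, split ((wt σ r w).map (nop σ))]
    refine Nat.add_le_add (Submodule.finrank_mono ?_) (le_of_eq ?_)
    · rintro _ ⟨s, hs', rfl⟩
      refine ⟨i s, ?_, ?_⟩
      · have : s ∈ (eig (σ (tt r)) (cst p K (r : ZMod p) ^ (-w))).comap i := comap_eig _ _ ▸ hs'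
        exact this
      · rw [map_nop hi]
    · rw [wt, wt, ← lift_eig hπ hs h2m hT (hc w), ← Submodule.map_comp, ← Submodule.map_comp,
        show π ∘ₗ nop σ = nop σQ ∘ₗ π from LinearMap.ext fun v => map_nop hπ v]
  have d4 : kp σ r m 3 ≤ kp σS r m 3 + kp σQ r m 3 := by
    rw [kp, kp, kp, split]
    refine Nat.add_le_add (le_of_eq ?_) (Submodule.finrank_mono ?_)
    · refine congrArg (fun A : Submodule K S => finrank K ↥A) ?_
      rw [Submodule.comap_inf, wt, wt, comap_eig]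
      congr 1
      ext s
      rw [Submodule.mem_comap, LinearMap.mem_ker, LinearMap.mem_ker, ← map_nop_pow hi]
      exact map_eq_zero_iff i hinj
    · rintro _ ⟨v, ⟨hv1, hv2⟩, rfl⟩
      exact ⟨map_eig hπ hv1, LinearMap.mem_ker.2 (by rw [← map_nop_pow hπ, LinearMap.mem_ker.1 hv2, map_zero])⟩
  have := d3 1
  have := d3 2
  unfold Ineq at hS hQ ⊢
  omega

end Exact

end CfsgLib.FixedSpace
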